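import Groth.Agent.Lib.DerNull9.Push

/-!
Derived internal hom commutes with derived completion.
-/

set_option autoImplicit false
set_option linter.unusedSectionVars false
set_option linter.style.haveILetI false
set_option backward.isDefEq.respectTransparency false
set_option backward.isDefEq.respectTransparency.types false

universe v u' u

open CategoryTheory CategoryTheory.Limits Opposite DerComp CategoryTheory.Pretriangulated

attribute [local instance] HasDerivedCategory.standard

namespace Groth.Agent.DerNull9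

open DerVanish9 SiteLpull9 KFlat KFlat.Site

section Gen

variable {A : Type u'} [Category.{v} A] [Abelian A] [IsGrothendieckAbelian.{v} A]

/-- A target orthogonal cone gives bijective postcomposition. -/
theorem bijective_postcomp {I J : CochainComplex A ℤ} (φ : I ⟶ J) (T : DerivedCategory A)
    (h : Perp (DerivedCategory.Q.obj (CochainComplex.mappingCone φ)) T) :
    Function.Bijective fun g : T ⟶ DerivedCategory.Q.obj I => g ≫ DerivedCategory.Q.map φ := by
  let S := DerivedCategory.Q.mapTriangle.obj (CochainComplex.mappingCone.triangle φ)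
  have hS : S ∈ distTriang _ := DerivedCategory.mappingCone_triangle_distinguished φ
  refine ⟨fun a b hab => sub_eq_zero.1 ?_, fun θ => ?_⟩
  · obtain ⟨g, hg⟩ := Triangle.coyoneda_exact₂ _ (inv_rot_of_distTriang _ hS) (a - b) (by
      show (a - b) ≫ DerivedCategory.Q.map φ = 0
      rw [Preadditive.sub_comp, sub_eq_zero]
      exact hab)
    rw [hg, show g = 0 from @Subsingleton.elim _ (h (-1)) _ _]
    exact zero_comp
  · have h0 : θ ≫ S.mor₂ = 0 := by
      rw [← cancel_mono ((shiftFunctorZero (DerivedCategory A) ℤ).inv.app S.obj₃), zero_comp]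
      exact @Subsingleton.elim _ (h 0) _ _
    obtain ⟨g, hg⟩ := Triangle.coyoneda_exact₂ _ hS θ h0
    exact ⟨g, hg.symm⟩

/-- Bijective postcomposition on all shifts gives orthogonality of the cone. -/
theorem perp_of_bijective_postcomp {I J : CochainComplex A ℤ} (φ : I ⟶ J) (T : DerivedCategory A)
    (h : ∀ m : ℤ, Function.Bijective fun g : T⟦m⟧ ⟶ DerivedCategory.Q.obj I => g ≫ DerivedCategory.Q.map φ) :
    Perp (DerivedCategory.Q.obj (CochainComplex.mappingCone φ)) T := by
  let S := DerivedCategory.Q.mapTriangle.obj (CochainComplex.mappingCone.triangle φ)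
  have hS : S ∈ distTriang _ := DerivedCategory.mappingCone_triangle_distinguished φ
  have key : ∀ (m : ℤ) (g : T⟦m⟧ ⟶ S.obj₃), g = 0 := fun m g => by
    have h0 : g ≫ S.mor₃ = 0 := by
      let adj : shiftFunctor (DerivedCategory A) (-1 : ℤ) ⊣ shiftFunctor (DerivedCategory A) (1 : ℤ) :=
        (shiftEquiv' (DerivedCategory A) (-1 : ℤ) 1 (neg_add_cancel 1)).toAdjunction
      let i := (CategoryTheory.shiftFunctorAdd' (DerivedCategory A) m (-1) (m - 1) (by omega)).app T
      refine (adj.homEquiv (T⟦m⟧) S.obj₁).symm.injective ?_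
      rw [← cancel_epi i.hom]
      refine (h (m - 1)).1 ?_
      have hz : g ≫ S.mor₃ ≫ S.mor₁⟦(1 : ℤ)⟧' = 0 := by
        rw [comp_distTriang_mor_zero₃₁ _ hS]
        exact comp_zero
      have h1 : ∀ z : T⟦m⟧ ⟶ (S.obj₁)⟦(1 : ℤ)⟧,
          (adj.homEquiv (T⟦m⟧) S.obj₁).symm z ≫ S.mor₁ =
            (adj.homEquiv (T⟦m⟧) S.obj₂).symm (z ≫ S.mor₁⟦(1 : ℤ)⟧') :=
        fun z => (adj.homEquiv_naturality_right_symm z S.mor₁).symm
      show (i.hom ≫ (adj.homEquiv (T⟦m⟧) S.obj₁).symm (g ≫ S.mor₃)) ≫ S.mor₁ =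
        (i.hom ≫ (adj.homEquiv (T⟦m⟧) S.obj₁).symm 0) ≫ S.mor₁
      rw [Category.assoc, Category.assoc, h1, h1, Category.assoc, hz, zero_comp]
    obtain ⟨ψ, hψ⟩ := Triangle.coyoneda_exact₃ _ hS g h0
    obtain ⟨χ, hχ⟩ := (h m).2 ψ
    rw [hψ, show ψ = χ ≫ S.mor₁ from hχ.symm, Category.assoc, comp_distTriang_mor_zero₁₂ _ hS]
    exact comp_zero
  intro n
  refine ⟨fun f g => ?_⟩
  let adj : shiftFunctor (DerivedCategory A) (-n) ⊣ shiftFunctor (DerivedCategory A) n :=
    (shiftEquiv' (DerivedCategory A) (-n) n (neg_add_cancel n)).toAdjunction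
  exact (adj.homEquiv T _).symm.injective ((key _ _).trans (key _ _).symm)

/-- Complexes killed by powers do not map to complexes with acyclic iterated cone. -/
theorem perp_of_kill {R : Type u} [CommRing R] [Linear R A] (as : List R) (W : CochainComplex A ℤ)
    (hW : IsZero (DerivedCategory.Q.obj (kos as W))) (X : DerivedCategory A)
    (hX : ∀ s ∈ as, ∃ N : ℕ, (s ^ N) • 𝟙 X = 0) : Perp (DerivedCategory.Q.obj W) X := by
  induction as generalizing W with
  | nil => exact fun n => ⟨fun f g => ((Functor.map_isZero (shiftFunctor (DerivedCategory A) n) hW).eq_of_tgt f g)⟩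
  | cons a as ih =>
    have hb := (perp_cone_right a W X).1 (ih _ hW fun s hs => hX s (List.mem_cons_of_mem _ hs))
    obtain ⟨N, hN⟩ := hX a List.mem_cons_self
    intro n
    refine ⟨fun f g => ?_⟩
    suffices ∀ f : X ⟶ (DerivedCategory.Q.obj W)⟦n⟧, f = 0 from (this f).trans (this g).symm
    clear f g
    intro f
    have h0 : (a ^ N) • f = 0 := by
      have := congrArg (· ≫ f) hN
      simpa only [Linear.smul_comp, Category.id_comp, zero_comp] using this
    clear hN
    induction N with
    | zero => simpa using h0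
    | succ N ihN =>
      refine ihN ((hb n).1 ?_)
      show a • (a ^ N • f) = a • (0 : X ⟶ _)
      rw [smul_smul, ← pow_succ', h0, smul_zero]

end Gen

variable {C : Type u} [SmallCategory C] {J : GrothendieckTopology C} {O : Sheaf J CommRingCat.{u}}

/-- Tensoring on complexes is linear. -/
theorem tensor_map_smul (E F : CochainComplex (ModSite.Mod O) ℤ) (s : GSec O) :
    (KFlat8.G E).map (s • 𝟙 F) = s • 𝟙 ((KFlat8.G E).obj F) := by
  refine HomologicalComplex.hom_ext _ _ fun n => HomologicalComplex.mapBifunctor.hom_ext fun p q h => ?_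
  refine (ι_tcx_map₁ (TS O) (s • 𝟙 F) E p q n h).trans ?_
  rw [HomologicalComplex.smul_f_apply, HomologicalComplex.smul_f_apply, HomologicalComplex.id_f,
    HomologicalComplex.id_f, Linear.comp_smul]
  refine Eq.trans ?_ (congrArg (s • ·) (Category.comp_id _)).symm
  rw [smul_def, Category.comp_id, tensor_smulEnd, smul_def]

section Main

variable {V : C} {r : ℕ} (a : Fin r → O.obj.obj (op V))
  [IsGrothendieckAbelian.{u} (ModSite.Mod (O.over V))]

/-- The projection formula on complexes. -/
noncomputable def projCx (F : CochainComplex (ModSite.Mod (O.over V)) ℤ) (P : CochainComplex (ModSite.Mod O) ℤ) :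
    (Lx O V).obj ((KFlat8.G ((Rx O V).obj P)).obj F) ≅ (KFlat8.G P).obj ((Lx O V).obj F) :=
  KFlat.transferIso (TS (O.over V)) (TS O) (𝟭 _) (ModSite.restr O V) (ModSite.extZero O V) (𝟭 _)
    (ModSite.extZero O V) (ModFlat16.natural_projη O V) F P

theorem adapted_Lx (F : CochainComplex (ModSite.Mod (O.over V)) ℤ) (hF : KFlat8.Adapted F) :
    KFlat8.Adapted ((Lx O V).obj F) :=
  (KFlat.isKFlat_flip_iff _).2 fun M hM => by
    haveI := preservesFiniteLimits_restr O V
    haveI := preservesFiniteColimits_restr O V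
    exact KFlat.acyclic_of_iso ((ModFlat16.acyclic_map_extZero_iff O V _).2
      ((KFlat.isKFlat_flip_iff _).1 hF ((Rx O V).obj M) fun i => ShortComplex.Exact.map (hM i) (ModSite.restr O V))) (projCx F M)

variable (P : CochainComplex (ModSite.Mod O) ℤ) [ModSite.HasLTensorCx P]

/-- The tensor of an extension of a killed complex is orthogonal to null complexes. -/
theorem perp_LT_Lx (Z : CochainComplex (ModSite.Mod O) ℤ) [Z.IsKInjective] (hZ : Null O a Z)
    (F₀ : CochainComplex (ModSite.Mod (O.over V)) ℤ)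
    (hF : ∀ s ∈ sects O a, ∃ N : ℕ, (s ^ N) • 𝟙 (DerivedCategory.Q.obj F₀) = 0) :
    Perp (DerivedCategory.Q.obj Z) ((ModSite.LTensorCx P).obj (DerivedCategory.Q.obj ((Lx O V).obj F₀))) := by
  haveI : IsGrothendieckAbelian.{u} (ModSite.Mod O) :=
    CohFound.isGrothendieckAbelian_sheafOfModules (ModSite.ringSh O)
  haveI := ModFlat16.preservesFiniteLimits_extZero O V
  haveI := preservesFiniteColimits_extZero O V
  obtain ⟨F, q, hA, hq⟩ := KFlat8.exists_res F₀
  haveI : QuasiIso ((Lx O V).map q) := inferInstance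
  haveI : ModSite.HasLTensorCx ((Rx O V).obj P) := hasLTensorCx _
  have hc := KFlat8.isIso_counit' P _ (adapted_Lx F hA)
  refine Perp.iso ?_ (DerivedCategory.Q.mapIso (projCx F P) ≪≫ (@asIso _ _ _ _ _ hc).symm ≪≫
    (ModSite.LTensorCx P).mapIso (asIso (DerivedCategory.Q.map ((Lx O V).map q))))
  refine (perp_Lx_iff O V _ Z).2 (perp_of_kill (sects O a) _ hZ _ fun s hs => ?_)
  obtain ⟨N, hN⟩ := hF s hs
  refine ⟨N, ?_⟩
  generalize s ^ N = t at hN ⊢
  have hc' := KFlat8.isIso_counit' ((Rx O V).obj P) F hA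
  have h1 : DerivedCategory.Q.map (t • 𝟙 F) = 0 := by
    rw [Functor.map_smul, CategoryTheory.Functor.map_id, ← cancel_mono (DerivedCategory.Q.map q), zero_comp,
      Linear.smul_comp, Category.id_comp]
    have := congrArg (DerivedCategory.Q.map q ≫ ·) hN
    simpa only [Linear.comp_smul, Category.comp_id, comp_zero] using this
  have h2 := (KFlat8.counit ((Rx O V).obj P)).naturality (t • 𝟙 F)
  change (ModSite.LTensorCx _).map (DerivedCategory.Q.map _) ≫ _ = _ ≫ DerivedCategory.Q.map ((KFlat8.G _).map _) at h2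
  rw [h1, Functor.map_zero, zero_comp, tensor_map_smul, Functor.map_smul] at h2
  erw [CategoryTheory.Functor.map_id] at h2
  exact (@cancel_epi _ _ _ _ _ _ (@IsIso.epi_of_iso _ _ _ _ _ hc') _ _).1 (h2.symm.trans comp_zero.symm)

end Main

/-- Precomposition with the image of a completion map under `RHom` is bijective. -/
theorem bijective_rhom_precomp (I : IdealSh O) (hI : I.IsFiniteType) (P : CochainComplex (ModSite.Mod O) ℤ)
    [ModSite.HasLTensorCx P] [HasRHom P] {M M' : DerivedCategory (ModSite.Mod O)} (η : M ⟶ M')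
    (hη : ∀ Y, IsDerComp O I Y → Function.Bijective fun g : M' ⟶ Y => η ≫ g)
    (Z : DerivedCategory (ModSite.Mod O)) (hZ : IsDerComp O I Z) :
    Function.Bijective fun g : (RHom P).obj M' ⟶ Z => (RHom P).map η ≫ g := by
  haveI : IsGrothendieckAbelian.{u} (ModSite.Mod O) :=
    CohFound.isGrothendieckAbelian_sheafOfModules (ModSite.ringSh O)
  obtain ⟨I₁, hI₁, ⟨e₁⟩⟩ := exists_kInj M
  obtain ⟨I₂, hI₂, ⟨e₂⟩⟩ := exists_kInj M'
  obtain ⟨φ, hφ⟩ := KInjLib.exists_map_eq (e₁.hom ≫ η ≫ e₂.inv)
  obtain ⟨J₁, hJ₁, ⟨d₁⟩⟩ := exists_kInj ((RHom P).obj M)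
  obtain ⟨J₂, hJ₂, ⟨d₂⟩⟩ := exists_kInj ((RHom P).obj M')
  obtain ⟨ψ, hψ⟩ := KInjLib.exists_map_eq (d₁.hom ≫ (RHom P).map η ≫ d₂.inv)
  haveI := RHomAway9.isKInjective_mappingCone φ
  haveI := RHomAway9.isKInjective_mappingCone ψ
  have hX : ∀ Y, IsDerComp O I Y → Perp Y (DerivedCategory.Q.obj (CochainComplex.mappingCone φ)) := fun Y hY =>
    (bijective_precomp_iff φ Y).1 fun n => by
      have hb := ((Iso.homCongr e₁.symm (Iso.refl (Y⟦n⟧))).bijective.comp
        (hη _ (isDerComp_shift hY n))).comp (Iso.homCongr e₂ (Iso.refl (Y⟦n⟧))).bijective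
      convert hb using 1
      funext g
      simp [hφ]
  have hnull : LocallyNull O I (CochainComplex.mappingCone ψ) := by
    intro V r a ha
    haveI : IsGrothendieckAbelian.{u} (ModSite.Mod (O.over V)) :=
      CohFound.isGrothendieckAbelian_sheafOfModules (ModSite.ringSh (O.over V))
    have hC : Null O a (CochainComplex.mappingCone φ) :=
      null_of_leftOrth I (fun W g => g ∈ I.ideal W)
        (fun K hK => fun W g hg n => (good_iff O K W g).2 (hK W g hg) n)
        (fun W g hg B q y => locSpan_of_isGenBy ha y (I.map_mem q hg)) _ hX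
    refine isZero_of_perp_self ?_
    suffices ∀ W, Perp (DerivedCategory.Q.obj (kos (sects O a) ((Rx O V).obj (CochainComplex.mappingCone ψ))))
        (DerivedCategory.Q.obj W) from this _
    intro W
    rw [perp_kos_iff]
    refine (perp_Lx_iff O V _ _).1 (perp_of_bijective_postcomp ψ _ fun m => ?_)
    let F₀ := (shiftFunctor (CochainComplex (ModSite.Mod (O.over V)) ℤ) m).obj (kos (sects O a).reverse W)
    let i : (DerivedCategory.Q.obj ((Lx O V).obj (kos (sects O a).reverse W)))⟦m⟧ ≅
        DerivedCategory.Q.obj ((Lx O V).obj F₀) :=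
      ((DerivedCategory.Q.commShiftIso m).app _).symm ≪≫
        DerivedCategory.Q.mapIso ((((ModSite.extZero O V).mapHomologicalComplex _).commShiftIso m).app _).symm
    have hF : ∀ s ∈ sects O a, ∃ N : ℕ, (s ^ N) • 𝟙 (DerivedCategory.Q.obj F₀) = 0 := fun s hs => by
      obtain ⟨N, hN⟩ := exists_pow_smul_kos (sects O a).reverse W s (Or.inl (List.mem_reverse.2 hs))
      refine ⟨N, ?_⟩
      let j := (DerivedCategory.Q.commShiftIso (C := CochainComplex (ModSite.Mod (O.over V)) ℤ) m).app
        (kos (sects O a).reverse W)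
      have h' := congrArg (fun z => j.hom ≫ (shiftFunctor (DerivedCategory (ModSite.Mod (O.over V))) m).map z ≫ j.inv) hN
      simp only [Functor.map_smul, Functor.map_zero, Linear.smul_comp,
        Linear.comp_smul, zero_comp, comp_zero] at h'
      erw [CategoryTheory.Functor.map_id, Category.id_comp, j.hom_inv_id] at h'
      exact h'
    have hb := bijective_postcomp φ _ (perp_LT_Lx a P _ hC F₀ hF)
    have hb' : Function.Bijective fun g : DerivedCategory.Q.obj ((Lx O V).obj F₀) ⟶ (RHom P).obj M =>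
        g ≫ (RHom P).map η := by
      have hb₁ := ((Iso.homCongr (Iso.refl _) e₂).bijective.comp hb).comp (Iso.homCongr (Iso.refl _) e₁).symm.bijective
      have hb₂ := (((RHomAdj P).homEquiv _ M').bijective.comp hb₁).comp ((RHomAdj P).homEquiv _ M).symm.bijective
      convert hb₂ using 1
      funext g
      obtain ⟨g, rfl⟩ := ((RHomAdj P).homEquiv (DerivedCategory.Q.obj ((Lx O V).obj F₀)) M).surjective g
      simp only [Function.comp_apply, Equiv.symm_apply_apply]
      rw [← (RHomAdj P).homEquiv_naturality_right]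
      congr 1
      simp [hφ]
    have hb'' := ((Iso.homCongr i.symm d₂.symm).bijective.comp hb').comp (Iso.homCongr i.symm d₁.symm).symm.bijective
    convert hb'' using 1
    funext g
    simp [hψ]
  obtain h := perp_of_locallyNull I hI _ hnull Z hZ
  have hb := (bijective_precomp_iff ψ Z).2 h 0
  let i := (shiftFunctorZero (DerivedCategory (ModSite.Mod O)) ℤ).app Z
  have hb' := ((Iso.homCongr d₁ i).bijective.comp hb).comp (Iso.homCongr d₂ i).symm.bijective
  convert hb' using 1
  funext g
  simp only [Function.comp_apply, Iso.homCongr_apply, Iso.homCongr_symm]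
  simp [hψ]

end Groth.Agent.DerNull9
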