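import Groth.Agent.Lib.DerNull9.Orth
import Groth.Agent.Lib.ModFlat16.PullRestr

/-!
Derived direct image commutes with derived completion.
-/

set_option autoImplicit false
set_option linter.unusedSectionVars false
set_option linter.style.haveILetI false
set_option backward.isDefEq.respectTransparency false
set_option backward.isDefEq.respectTransparency.types false

universe v u' u

open CategoryTheory CategoryTheory.Limits Opposite DerComp CategoryTheory.Pretriangulated

attribute [local instance] HasDerivedCategory.standard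

namespace Groth.Agent.DerNull9

open DerVanish9 SiteLpull9

section Gen

variable {A : Type u'} [Category.{v} A] [Abelian A] [IsGrothendieckAbelian.{v} A]

/-- The cone of a map is orthogonal iff precomposition is bijective. -/
theorem bijective_precomp_iff {I J : CochainComplex A ℤ} (φ : I ⟶ J) (Y : DerivedCategory A) :
    (∀ n : ℤ, Function.Bijective fun g : DerivedCategory.Q.obj J ⟶ Y⟦n⟧ => DerivedCategory.Q.map φ ≫ g) ↔
      Perp Y (DerivedCategory.Q.obj (CochainComplex.mappingCone φ)) := by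
  let T := DerivedCategory.Q.mapTriangle.obj (CochainComplex.mappingCone.triangle φ)
  have hT : T ∈ distTriang _ := DerivedCategory.mappingCone_triangle_distinguished φ
  refine ⟨fun h n => ⟨fun f g => ?_⟩, fun h n => ⟨fun a b hab => ?_, fun θ => ?_⟩⟩
  · suffices ∀ f : DerivedCategory.Q.obj (CochainComplex.mappingCone φ) ⟶ Y⟦n⟧, f = 0 from
      (this f).trans (this g).symm
    clear f g
    intro f
    have h0 : T.mor₂ ≫ f = 0 := by
      refine (h n).1 ?_
      show T.mor₁ ≫ T.mor₂ ≫ f = T.mor₁ ≫ 0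
      have hz : T.mor₁ ≫ T.mor₂ = 0 := comp_distTriang_mor_zero₁₂ _ hT
      rw [← Category.assoc, hz, zero_comp]
      exact comp_zero.symm
    obtain ⟨ψ, hψ⟩ := Triangle.yoneda_exact₃ _ hT f h0
    let adj : shiftFunctor (DerivedCategory A) (1 : ℤ) ⊣ shiftFunctor (DerivedCategory A) (-1 : ℤ) :=
      (shiftEquiv' (DerivedCategory A) (1 : ℤ) (-1) (add_neg_cancel 1)).toAdjunction
    let i := (CategoryTheory.shiftFunctorAdd' (DerivedCategory A) n (-1) (n - 1) (by omega)).app Y
    obtain ⟨χ, hχ⟩ := (h (n - 1)).2 (adj.homEquiv _ _ ψ ≫ i.inv)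
    have hψ' : ψ = T.mor₁⟦(1 : ℤ)⟧' ≫ (adj.homEquiv _ _).symm (χ ≫ i.hom) := by
      refine (adj.homEquiv T.obj₁ (Y⟦n⟧)).injective ?_
      rw [adj.homEquiv_naturality_left, Equiv.apply_symm_apply, ← Category.assoc]
      rw [show T.mor₁ ≫ χ = _ from hχ]
      rw [Category.assoc, i.inv_hom_id]
      exact (Category.comp_id _).symm
    rw [hψ, hψ', ← Category.assoc]
    erw [comp_distTriang_mor_zero₃₁ _ hT]
    exact zero_comp
  · refine sub_eq_zero.1 ?_
    obtain ⟨g, hg⟩ := Triangle.yoneda_exact₂ _ hT (a - b) (by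
      show DerivedCategory.Q.map φ ≫ (a - b) = 0
      rw [Preadditive.comp_sub, sub_eq_zero]
      exact hab)
    rw [hg, show g = 0 from @Subsingleton.elim _ (h n) _ _]
    exact comp_zero
  · obtain ⟨g, hg⟩ := Triangle.yoneda_exact₂ _ (inv_rot_of_distTriang _ hT) θ
      (@Subsingleton.elim _ (perp_shift_right h (-1) n) _ _)
    exact ⟨g, hg.symm⟩

variable {B : Type u'} [Category.{v} B] [Abelian B] [IsGrothendieckAbelian.{v} B]
  {R : Type u} [CommRing R] [Linear R A] {S : Type u} [CommRing S] [Linear S B] (F : A ⥤ B) [F.Additive]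

theorem nonempty_map_kos₂ {ι : Type} (ρ : ι → R) (σ : ι → S)
    (h : ∀ (i : ι) (M : A), F.map (ρ i • 𝟙 M) = σ i • 𝟙 (F.obj M)) (l : List ι) (K : CochainComplex A ℤ) :
    Nonempty ((F.mapHomologicalComplex _).obj (kos (l.map ρ) K) ≅
      kos (l.map σ) ((F.mapHomologicalComplex _).obj K)) := by
  induction l generalizing K with
  | nil => exact ⟨Iso.refl _⟩
  | cons i l ih =>
    obtain ⟨e⟩ := ih (CochainComplex.mappingCone (ρ i • 𝟙 K))
    have hi : (F.mapHomologicalComplex (ComplexShape.up ℤ)).map (ρ i • 𝟙 K) = σ i • 𝟙 _ :=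
      HomologicalComplex.hom_ext _ _ fun n => h i (K.X n)
    obtain ⟨e'⟩ := nonempty_kosIso (l.map σ)
      (CochainComplex.mappingCone.mapHomologicalComplexIso (ρ i • 𝟙 K) F ≪≫
        eqToIso (congrArg (fun φ => CochainComplex.mappingCone φ) hi))
    exact ⟨e ≪≫ e'⟩

/-- An additive functor keeps null K-injective complexes null. -/
theorem isZero_Q_map_of_isKInjective (K : CochainComplex A ℤ) [K.IsKInjective]
    (h : IsZero (DerivedCategory.Q.obj K)) :
    ∀ n, IsZero (((F.mapHomologicalComplex (ComplexShape.up ℤ)).obj K).homology n) := by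
  obtain ⟨H⟩ := (KInjLib.map_eq_iff (𝟙 K) 0).1 (h.eq_of_src _ _)
  intro n
  rw [IsZero.iff_id_eq_zero, ← HomologicalComplex.homologyMap_id]
  rw [← (F.mapHomologicalComplex (ComplexShape.up ℤ)).map_id, (F.mapHomotopy H).homologyMap_eq,
    Functor.map_zero, HomologicalComplex.homologyMap_zero]

end Gen

variable {C D : Type u} [SmallCategory C] [SmallCategory D] {J : GrothendieckTopology C}
  {K : GrothendieckTopology D} {O_C : Sheaf J CommRingCat.{u}} {O_D : Sheaf K CommRingCat.{u}}
  (f : ModSite.RMor O_C O_D)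

section Transport

variable (V : D)

/-- Restriction commutes with direct image. -/
noncomputable def restrPushIso :
    ModSite.restr O_C (f.fn.obj V) ⋙ ModFlat16.pushV f V ≅ f.push ⋙ ModSite.restr O_D V :=
  NatIso.ofComponents (fun M => (SheafOfModules.fullyFaithfulForget _).preimageIso
    (PresheafOfModules.isoMk (fun _ => Iso.refl _)))

instance additive_pushV : (ModFlat16.pushV f V).Additive where
  map_add := rfl

theorem pushV_smulEnd (g : O_D.obj.obj (op V)) (N : ModSite.Mod (O_C.over (f.fn.obj V))) :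
    (ModFlat16.pushV f V).map (smulEnd (GSec.ofSect O_C (f.fn.obj V) ((f.sharp.hom.app (op V)).hom g)) N) =
      smulEnd (GSec.ofSect O_D V g) ((ModFlat16.pushV f V).obj N) := by
  refine SheafOfModules.hom_ext (PresheafOfModules.hom_ext fun A => ModuleCat.hom_ext (LinearMap.ext fun x => ?_))
  have hn : (O_C.obj.map (f.fn.map A.unop.hom).op).hom ((f.sharp.hom.app (op V)).hom g) =
      (f.sharp.hom.app (op A.unop.left)).hom ((O_D.obj.map A.unop.hom.op).hom g) :=
    (ConcreteCategory.congr_hom (f.sharp.hom.naturality A.unop.hom.op) g).symm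
  show (O_C.obj.map (f.fn.map A.unop.hom).op).hom ((f.sharp.hom.app (op V)).hom g) •
      (show N.val.obj (op ((Over.post f.fn).obj A.unop)) from x) =
    (f.sharp.hom.app (op A.unop.left)).hom ((O_D.obj.map A.unop.hom.op).hom g) •
      (show N.val.obj (op ((Over.post f.fn).obj A.unop)) from x)
  rw [hn]

theorem null_push {r : ℕ} (a : Fin r → O_D.obj.obj (op V)) (X : CochainComplex (ModSite.Mod O_C) ℤ)
    [X.IsKInjective] [IsGrothendieckAbelian.{u} (ModSite.Mod (O_D.over V))]
    [IsGrothendieckAbelian.{u} (ModSite.Mod (O_C.over (f.fn.obj V)))]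
    (h : Null O_C (fun i => (f.sharp.hom.app (op V)).hom (a i)) X) :
    Null O_D a ((f.push.mapHomologicalComplex (ComplexShape.up ℤ)).obj X) := by
  haveI := isKInjective_Rx O_C (f.fn.obj V) X
  obtain ⟨e⟩ := nonempty_map_kos₂ (ModFlat16.pushV f V)
    (fun i => GSec.ofSect O_C (f.fn.obj V) ((f.sharp.hom.app (op V)).hom (a i)))
    (fun i => GSec.ofSect O_D V (a i))
    (fun i M => by rw [smul_def, smul_def, Category.comp_id, Category.comp_id]; exact pushV_smulEnd f V (a i) M)
    (List.finRange r) ((Rx O_C (f.fn.obj V)).obj X)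
  rw [← List.ofFn_eq_map, ← List.ofFn_eq_map] at e
  haveI := isKInjective_kos (sects O_C fun i => (f.sharp.hom.app (op V)).hom (a i)) ((Rx O_C (f.fn.obj V)).obj X)
  obtain ⟨e'⟩ := nonempty_kosIso (sects O_D a)
    ((NatIso.mapHomologicalComplex (restrPushIso f V) (ComplexShape.up ℤ)).app X)
  exact (isZero_Q_of_isZero_homology _ (isZero_Q_map_of_isKInjective (ModFlat16.pushV f V) _ h)).of_iso
    (DerivedCategory.Q.mapIso (e ≪≫ e')).symm

/-- The images of generators generate locally. -/
theorem locSpan_push (I : IdealSh O_D) {r : ℕ} (a : Fin r → O_D.obj.obj (op V))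
    (hgen : (I.over V).IsGenBy fun i => GSec.ofSect O_D V (a i)) {V' : D} {g : O_D.obj.obj (op V')}
    (hg : g ∈ I.ideal V') {B : C} (q : B ⟶ f.fn.obj V') (y : B ⟶ f.fn.obj V) :
    LocSpan O_C (fun i => (f.sharp.hom.app (op V)).hom (a i)) y
      ((O_C.obj.map q.op).hom ((f.sharp.hom.app (op V')).hom g)) := by
  obtain ⟨S, hS, hspan⟩ := ModFlat16.locally_span f q y
  choose W g₁ g₂ w hw₁ hw₂ using hspan
  have h2 : ∀ ⦃B' : C⦄ (k : B' ⟶ B) (hk : S k), ∃ T ∈ J B', ∀ ⦃B'' : C⦄ (l : B'' ⟶ B'), T l →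
      (O_C.obj.map (l ≫ k).op).hom ((O_C.obj.map q.op).hom ((f.sharp.hom.app (op V')).hom g)) ∈
        Ideal.span (Set.range fun i => (O_C.obj.map ((l ≫ k) ≫ y).op).hom ((f.sharp.hom.app (op V)).hom (a i))) := by
    intro B' k hk
    obtain ⟨R, hR, hR'⟩ := locSpan_of_isGenBy hgen (g₂ k hk) (I.map_mem (g₁ k hk) hg)
    obtain ⟨T, hT, hT'⟩ := ModFlat16.locally_lift f (w k hk) R hR
    refine ⟨T, hT, fun B'' l hl => ?_⟩
    obtain ⟨W', c, u', hc, hu'⟩ := hT' l hl
    let ψ : O_D.obj.obj (op W') →+* O_C.obj.obj (op B'') :=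
      (O_C.obj.map u'.op).hom.comp (f.sharp.hom.app (op W')).hom
    have key : ∀ {Z : D} (p : W' ⟶ Z) (z : O_D.obj.obj (op Z)),
        ψ ((O_D.obj.map p.op).hom z) = (O_C.obj.map (u' ≫ f.fn.map p).op).hom ((f.sharp.hom.app (op Z)).hom z) :=
      fun p z => by
        rw [← DerVanish9.map_map]
        exact congrArg (O_C.obj.map u'.op).hom (ConcreteCategory.congr_hom (f.sharp.hom.naturality p.op) z)
    have h3 := Ideal.mem_map_of_mem ψ (hR' c hc)
    rw [Ideal.map_span, ← Set.range_comp, DerVanish9.map_map, key] at h3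
    have hfun : (ψ ∘ fun i => (O_D.obj.map (c ≫ g₂ k hk).op).hom (a i)) =
        fun i => (O_C.obj.map ((l ≫ k) ≫ y).op).hom ((f.sharp.hom.app (op V)).hom (a i)) := funext fun i => by
      rw [Function.comp_apply, key, Functor.map_comp, reassoc_of% hu', hw₂, ← Category.assoc]
    rw [hfun, Functor.map_comp, reassoc_of% hu', hw₁, ← Category.assoc, ← DerVanish9.map_map] at h3
    exact h3
  choose T hT hT' using h2
  refine ⟨Sieve.bind S.arrows fun B' k hk => T k hk, J.bind_covering hS fun B' k hk => hT k hk, ?_⟩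
  rintro B'' _ ⟨B', l, k, hk, hl, rfl⟩
  exact hT' k hk l hl

/-- A complex left orthogonal upstairs has locally null direct image. -/
theorem locallyNull_push (I : IdealSh O_D) (I' : IdealSh O_C) (hI' : RIsIdealExt f I I')
    (X : CochainComplex (ModSite.Mod O_C) ℤ) [X.IsKInjective]
    (hX : ∀ Y, IsDerComp O_C I' Y → Perp Y (DerivedCategory.Q.obj X)) :
    LocallyNull O_D I ((f.push.mapHomologicalComplex (ComplexShape.up ℤ)).obj X) := by
  intro V r a ha
  haveI : IsGrothendieckAbelian.{u} (ModSite.Mod (O_D.over V)) :=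
    CohFound.isGrothendieckAbelian_sheafOfModules (ModSite.ringSh (O_D.over V))
  haveI : IsGrothendieckAbelian.{u} (ModSite.Mod (O_C.over (f.fn.obj V))) :=
    CohFound.isGrothendieckAbelian_sheafOfModules (ModSite.ringSh (O_C.over (f.fn.obj V)))
  refine null_push f V a X (null_of_leftOrth I' (fun W g => ∃ (V' : D) (g₀ : O_D.obj.obj (op V'))
    (x : W ⟶ f.fn.obj V'), g₀ ∈ I.ideal V' ∧ g = (O_C.obj.map x.op).hom ((f.sharp.hom.app (op V')).hom g₀))
    (fun K hK => (isDerComp_iff_le K I').2 (hI'.2 _ fun V' g₀ hg₀ W x => hK W _ ⟨V', g₀, x, hg₀, rfl⟩))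
    ?_ X hX)
  rintro W _ ⟨V', g₀, x, hg₀, rfl⟩ B q y
  rw [DerVanish9.map_map]
  exact locSpan_push f V I a ha hg₀ (q ≫ x) y

end Transport

variable [SiteCmp.HasRpushD f]

/-- The comparison of direct image and derived direct image on complexes. -/
noncomputable def pushNat : f.push.mapHomologicalComplex (ComplexShape.up ℤ) ⋙ DerivedCategory.Q ⟶
    DerivedCategory.Q ⋙ SiteCmp.RpushD f :=
  let u := (SiteCmp.pushKh f).totalRightDerivedUnit DerivedCategory.Qh
    (HomotopyCategory.quasiIso (ModSite.Mod O_C) (ComplexShape.up ℤ))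
  Functor.whiskerLeft _ (DerivedCategory.quotientCompQhIso (ModSite.Mod O_D)).inv ≫
    (Functor.associator _ _ _).inv ≫
    Functor.whiskerRight (f.push.mapHomotopyCategoryFactors _).inv _ ≫
    Functor.whiskerLeft (HomotopyCategory.quotient (ModSite.Mod O_C) _) u ≫ (Functor.associator _ _ _).inv ≫
    Functor.whiskerRight (DerivedCategory.quotientCompQhIso (ModSite.Mod O_C)).hom (SiteCmp.RpushD f)

theorem isIso_pushNat (I : CochainComplex (ModSite.Mod O_C) ℤ) [I.IsKInjective] :
    IsIso ((pushNat f).app I) := by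
  haveI : IsGrothendieckAbelian.{u} (ModSite.Mod O_C) :=
    CohFound.isGrothendieckAbelian_sheafOfModules (ModSite.ringSh O_C)
  let u := (SiteCmp.pushKh f).totalRightDerivedUnit DerivedCategory.Qh
    (HomotopyCategory.quasiIso (ModSite.Mod O_C) (ComplexShape.up ℤ))
  have h1 : IsIso (u.app ((HomotopyCategory.quotient _ _).obj I)) :=
    KInjLib.isIso_app_of_isKInjective KInjLib.enoughKInj_of_grothendieck u I
  simp only [pushNat, NatTrans.comp_app, Functor.whiskerLeft_app, Functor.whiskerRight_app,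
    Functor.associator_inv_app]
  infer_instance

/-- Precomposition with the image of a completion map is bijective. -/
theorem bijective_rpushD_precomp (I : IdealSh O_D) (hI : I.IsFiniteType) (I' : IdealSh O_C)
    (hI' : RIsIdealExt f I I') {M M' : DerivedCategory (ModSite.Mod O_C)} (η : M ⟶ M')
    (hη : ∀ Y, IsDerComp O_C I' Y → Function.Bijective fun g : M' ⟶ Y => η ≫ g)
    (Z : DerivedCategory (ModSite.Mod O_D)) (hZ : IsDerComp O_D I Z) :
    Function.Bijective fun g : (SiteCmp.RpushD f).obj M' ⟶ Z => (SiteCmp.RpushD f).map η ≫ g := by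
  haveI : IsGrothendieckAbelian.{u} (ModSite.Mod O_C) :=
    CohFound.isGrothendieckAbelian_sheafOfModules (ModSite.ringSh O_C)
  haveI : IsGrothendieckAbelian.{u} (ModSite.Mod O_D) :=
    CohFound.isGrothendieckAbelian_sheafOfModules (ModSite.ringSh O_D)
  obtain ⟨I₁, hI₁, ⟨e₁⟩⟩ := exists_kInj M
  obtain ⟨I₂, hI₂, ⟨e₂⟩⟩ := exists_kInj M'
  obtain ⟨φ, hφ⟩ := KInjLib.exists_map_eq (e₁.hom ≫ η ≫ e₂.inv)
  haveI := RHomAway9.isKInjective_mappingCone φ
  have hcomp : e₁.hom ≫ η = DerivedCategory.Q.map φ ≫ e₂.hom := by rw [hφ]; simp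
  have hX : ∀ Y, IsDerComp O_C I' Y → Perp Y (DerivedCategory.Q.obj (CochainComplex.mappingCone φ)) := fun Y hY =>
    (bijective_precomp_iff φ Y).1 fun n => by
      have hb := ((Iso.homCongr e₁.symm (Iso.refl (Y⟦n⟧))).bijective.comp
        (hη _ (isDerComp_shift hY n))).comp (Iso.homCongr e₂ (Iso.refl (Y⟦n⟧))).bijective
      convert hb using 1
      funext g
      simp [hφ]
  obtain h := perp_of_locallyNull I hI _ (locallyNull_push f I I' hI' _ hX) Z hZ
  have h' : Perp Z (DerivedCategory.Q.obj (CochainComplex.mappingCone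
      ((f.push.mapHomologicalComplex (ComplexShape.up ℤ)).map φ))) :=
    h.iso (DerivedCategory.Q.mapIso (CochainComplex.mappingCone.mapHomologicalComplexIso φ f.push))
  have hb := (bijective_precomp_iff _ Z).2 h' 0
  haveI := isIso_pushNat f I₁
  haveI := isIso_pushNat f I₂
  let j₁ : DerivedCategory.Q.obj ((f.push.mapHomologicalComplex _).obj I₁) ≅ (SiteCmp.RpushD f).obj M :=
    asIso ((pushNat f).app I₁) ≪≫ (SiteCmp.RpushD f).mapIso e₁
  let j₂ : DerivedCategory.Q.obj ((f.push.mapHomologicalComplex _).obj I₂) ≅ (SiteCmp.RpushD f).obj M' :=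
    asIso ((pushNat f).app I₂) ≪≫ (SiteCmp.RpushD f).mapIso e₂
  have hj : DerivedCategory.Q.map ((f.push.mapHomologicalComplex _).map φ) ≫ j₂.hom =
      j₁.hom ≫ (SiteCmp.RpushD f).map η := by
    simp only [j₁, j₂, Iso.trans_hom, asIso_hom, Functor.mapIso_hom, Category.assoc, ← Functor.map_comp, hcomp]
    rw [Functor.map_comp, ← Category.assoc, ← Category.assoc]
    exact congrArg (· ≫ _) ((pushNat f).naturality φ)
  let i := (shiftFunctorZero (DerivedCategory (ModSite.Mod O_D)) ℤ).app Z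
  have hb' := ((Iso.homCongr j₁ i).bijective.comp hb).comp (Iso.homCongr j₂ i).symm.bijective
  convert hb' using 1
  funext g
  simp only [Function.comp_apply, Iso.homCongr_apply, Iso.homCongr_symm]
  simp only [Iso.symm_hom, Iso.symm_inv, ← Category.assoc, hj]
  simp

end Groth.Agent.DerNull9
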