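import Groth.Agent.Lib.DerNull9.Test
import Groth.Agent.Lib.DerVanish9.Restrict
import Groth.Agent.Lib.KFlat8.SiteLTFlat
import Groth.Agent.Lib.RHom.Small

/-!
Locally Koszul-null objects are left orthogonal to derived complete objects.
-/

set_option autoImplicit false
set_option linter.unusedSectionVars false
set_option linter.style.haveILetI false
set_option backward.isDefEq.respectTransparency false
set_option backward.isDefEq.respectTransparency.types false

universe v' v u' u

open CategoryTheory CategoryTheory.Limits Opposite DerComp CategoryTheory.Pretriangulated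

attribute [local instance] HasDerivedCategory.standard

namespace Groth.Agent.DerNull9

open DerVanish9 SiteLpull9 KFlat KFlat.Site

section Shift

variable {A : Type u'} [Category.{v'} A] [Abelian A]

/-- Renumbering is a shift. -/
theorem nonempty_mapRenum_iso {B : Type u'} [Category.{v'} B] [Abelian B] (G : A ⥤ B) [G.Additive]
    (P : CochainComplex A ℤ) (a : ℤ) :
    Nonempty (mapRenum G P a ≅ (G.mapHomologicalComplex (ComplexShape.up ℤ)).obj (P⟦-a⟧)) := by
  let e : ∀ n, G.obj (P.X (n - a)) ≅ G.obj (P.X (n + -a)) := fun n =>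
    (a * n).negOnePow • G.mapIso (P.XIsoOfEq (sub_eq_add_neg n a))
  refine ⟨HomologicalComplex.Hom.isoOfComponents e fun i j hij => ?_⟩
  obtain rfl : i + 1 = j := hij
  show ((a * i).negOnePow • G.map (P.XIsoOfEq _).hom) ≫ G.map ((-a).negOnePow • P.d _ _) =
    G.map (P.d _ _) ≫ ((a * (i + 1)).negOnePow • G.map (P.XIsoOfEq _).hom)
  have hG : ∀ (u : ℤˣ) {X Y : A} (f : X ⟶ Y), G.map (u • f) = u • G.map f := fun u X Y f => by
    rw [Units.smul_def, Units.smul_def, G.map_zsmul]
  rw [hG, Linear.units_smul_comp, Linear.comp_units_smul, smul_smul,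
    ← G.map_comp, HomologicalComplex.XIsoOfEq_hom_comp_d, Linear.comp_units_smul, ← G.map_comp,
    HomologicalComplex.d_comp_XIsoOfEq_hom]
  congr 1
  rw [← Int.negOnePow_add, Int.negOnePow_eq_iff]
  exact ⟨-a, by ring⟩

variable [IsGrothendieckAbelian.{v'} A] {R : Type u} [CommRing R] [Linear R A]

theorem isZero_kos_shift (as : List R) (K : CochainComplex A ℤ) (m : ℤ)
    (h : IsZero (DerivedCategory.Q.obj (kos as K))) :
    IsZero (DerivedCategory.Q.obj (kos as (K⟦m⟧))) :=
  (isZero_kos_iff as _).2 fun W =>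
    (((isZero_kos_iff as K).1 h W).shift m).iso (((DerivedCategory.Q (C := A)).commShiftIso m).app K).symm

/-- The telescope of multiplication by a scalar, on complexes. -/
noncomputable abbrev TelC (s : R) (X : CochainComplex A ℤ) : CochainComplex A ℤ := Tel (s • 𝟙 X)

theorem eq_zero_of_bij {W : DerivedCategory A} (s : R) (X : CochainComplex A ℤ)
    (hb : Bij s (DerivedCategory.Q.obj X) W) (hT : Perp W (DerivedCategory.Q.obj (TelC s X))) :
    Perp W (DerivedCategory.Q.obj X) := fun n => ⟨fun f g => by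
  suffices ∀ h : DerivedCategory.Q.obj X ⟶ W⟦n⟧, h = 0 from (this f).trans (this g).symm
  clear f g
  intro h
  haveI : HasExactColimitsOfShape ℕ A :=
    haveI : AB5OfSize.{0, 0} A := AB5OfSize_shrink.{0, 0, v', v'} A
    AB5OfSize.ofShape _
  let y : ℕ → (DerivedCategory.Q.obj X ⟶ W⟦n⟧) :=
    fun k => k.rec h fun _ x => ((hb n).2 x).choose
  have hy : ∀ k, s • y (k + 1) = y k := fun k => ((hb n).2 (y k)).choose_spec
  obtain ⟨Φ, hΦ⟩ : ∃ Φ : DerivedCategory.Q.obj (∐ fun _ : ULift.{v'} ℕ => X) ⟶ W⟦n⟧,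
      ∀ k, DerivedCategory.Q.map (Sigma.ι (fun _ : ULift.{v'} ℕ => X) k) ≫ Φ = y k.down :=
    ⟨Cofan.IsColimit.desc (KInjLib.isColimitSigma fun _ : ULift.{v'} ℕ => X) fun k => y k.down,
      fun k => Cofan.IsColimit.fac (KInjLib.isColimitSigma fun _ : ULift.{v'} ℕ => X) (fun k => y k.down) k⟩
  let e : (∐ fun _ : ℕ => X) ⟶ ∐ fun _ : ULift.{v'} ℕ => X :=
    Sigma.desc fun k => Sigma.ι (fun _ : ULift.{v'} ℕ => X) ⟨k⟩
  let e' : (∐ fun _ : ULift.{v'} ℕ => X) ⟶ ∐ fun _ : ℕ => X :=
    Sigma.desc fun k => Sigma.ι (fun _ : ℕ => X) k.down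
  haveI : IsIso e := ⟨e', Sigma.hom_ext _ _ fun k => by simp [e, e'], Sigma.hom_ext _ _ fun k => by simp [e, e']⟩
  haveI : IsIso e' := ⟨e, Sigma.hom_ext _ _ fun k => by simp [e, e'], Sigma.hom_ext _ _ fun k => by simp [e, e']⟩
  let Ψ := DerivedCategory.Q.map e ≫ Φ
  have hΨ : ∀ k, DerivedCategory.Q.map (Sigma.ι (fun _ : ℕ => X) k) ≫ Ψ = y k := fun k => by
    rw [← Category.assoc, ← Functor.map_comp, show Sigma.ι (fun _ : ℕ => X) k ≫ e = _ from Sigma.ι_desc _ _]
    exact hΦ ⟨k⟩
  have h0 : DerivedCategory.Q.map (telMap (s • 𝟙 X)) ≫ Ψ = 0 := by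
    rw [← cancel_epi (DerivedCategory.Q.map e'), comp_zero]
    refine Cofan.IsColimit.hom_ext (KInjLib.isColimitSigma fun _ : ULift.{v'} ℕ => X) _ _ fun k => ?_
    show DerivedCategory.Q.map (Sigma.ι (fun _ : ULift.{v'} ℕ => X) k) ≫ _ = DerivedCategory.Q.map _ ≫ 0
    rw [comp_zero, ← Category.assoc, ← Functor.map_comp, Sigma.ι_desc, ← Category.assoc, ← Functor.map_comp,
      Sigma.ι_desc, Functor.map_sub, Functor.map_comp, Functor.map_smul, CategoryTheory.Functor.map_id,
      Preadditive.sub_comp, Category.assoc, hΨ, hΨ, Linear.smul_comp, Category.id_comp, hy, sub_self]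
  obtain ⟨ψ, hψ⟩ := Triangle.yoneda_exact₂ _
    (DerivedCategory.triangleOfSES_distinguished (shortExact_telSC (s • 𝟙 X))) Ψ h0
  have hz : Ψ = 0 := by rw [hψ, show ψ = 0 from @Subsingleton.elim _ (hT n) _ _, comp_zero]
  have := hΨ 0
  rw [hz, comp_zero] at this
  exact this.symm⟩

/-- Nullity gives orthogonality. -/
theorem perp_of_isZero_kos {W : DerivedCategory A} (as : List R)
    (hT : ∀ s ∈ as, ∀ X : CochainComplex A ℤ, Perp W (DerivedCategory.Q.obj (TelC s X)))
    (X : CochainComplex A ℤ) (h : IsZero (DerivedCategory.Q.obj (kos as X))) :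
    Perp W (DerivedCategory.Q.obj X) := by
  induction as generalizing X with
  | nil => exact Perp.of_isZero h
  | cons s as ih =>
    exact eq_zero_of_bij s X
      ((perp_cone_left s X W).1 (ih (fun t ht => hT t (List.mem_cons_of_mem _ ht)) _ h))
      (hT s List.mem_cons_self X)

theorem isIso_smul_telC (s : R) (X : CochainComplex A ℤ) : IsIso (s • 𝟙 (TelC s X)) := by
  have hw : ∀ n, telι (s • 𝟙 X) n = s • telι (s • 𝟙 X) (n + 1) := fun n => by
    conv_lhs => rw [telι_rel, Linear.smul_comp, Category.id_comp]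
  let σ : TelC s X ⟶ TelC s X := telDesc (s • 𝟙 X) (fun n => telι (s • 𝟙 X) (n + 1)) fun n => telι_rel _ _
  refine ⟨σ, tel_hom_ext _ fun n => ?_, tel_hom_ext _ fun n => ?_⟩
  · rw [Linear.smul_comp, Category.id_comp, Linear.comp_smul, telι_telDesc, Category.comp_id, ← hw]
  · rw [← Category.assoc, telι_telDesc, Linear.comp_smul, Category.comp_id, Category.comp_id, ← hw]

end Shift

variable {C : Type u} [SmallCategory C] {J : GrothendieckTopology C} {O : Sheaf J CommRingCat.{u}}

theorem perp_telC {K : DerivedCategory (ModSite.Mod O)} {U : C} {f : O.obj.obj (op U)} (h : GoodAll K U f)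
    (I : CochainComplex (ModSite.Mod O) ℤ) [I.IsKInjective] (e : DerivedCategory.Q.obj I ≅ K)
    (X : CochainComplex (ModSite.Mod (O.over U)) ℤ) :
    Perp (DerivedCategory.Q.obj ((Rx O U).obj I)) (DerivedCategory.Q.obj (TelC (GSec.ofSect O U f) X)) := by
  haveI : IsGrothendieckAbelian.{u} (ModSite.Mod (O.over U)) :=
    CohFound.isGrothendieckAbelian_sheafOfModules (ModSite.ringSh (O.over U))
  refine (perp_Lx_iff O U _ I).1 fun n => ?_
  refine (Iso.homCongr (Iso.refl _) ((shiftFunctor _ n).mapIso e)).subsingleton_congr.2 ?_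
  refine perp_complex (s := GSec.ofSect O U f) h.perp_ext _ (fun i => ?_) n
  haveI := isIso_smul_telC (GSec.ofSect O U f) X
  have hi : IsIso (((GSec.ofSect O U f) • 𝟙 (TelC (GSec.ofSect O U f) X)).f i) :=
    inferInstanceAs (IsIso ((HomologicalComplex.eval (ModSite.Mod (O.over U)) (ComplexShape.up ℤ) i).map
      ((GSec.ofSect O U f) • 𝟙 (TelC (GSec.ofSect O U f) X))))
  rw [HomologicalComplex.smul_f_apply, HomologicalComplex.id_f, smul_def, Category.comp_id] at hi
  exact hi

/-- The derived tensor product exists. -/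
theorem hasLTensorCx (E : CochainComplex (ModSite.Mod O) ℤ) : ModSite.HasLTensorCx E := by
  haveI : IsGrothendieckAbelian.{u} (ModSite.Mod O) :=
    CohFound.isGrothendieckAbelian_sheafOfModules (ModSite.ringSh O)
  haveI : AB5OfSize.{0, 0} (ModSite.Mod O) := AB5OfSize_shrink.{0, 0, u, u} (ModSite.Mod O)
  exact hasLeftDerivedFunctor_comp_Q (cover O) (KFlat8.G E) KFlat8.Adapted KFlat8.adapted_res
    fun φ _ hA hB => KFlat8.quasiIso_G_map E φ hA hB

/-- The derived tensor product is exact. -/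
theorem homExact_LT (E : CochainComplex (ModSite.Mod O) ℤ) [ModSite.HasLTensorCx E] : RHom.HomExact (ModSite.LTensorCx E) := by
  haveI : HasFiniteBiproducts (ModSite.Mod O) := Abelian.hasFiniteBiproducts
  have h1 : SplitPres (KFlat8.G E) := splitPres_right (TS O) E
  have h2 : ∀ {K L : CochainComplex (ModSite.Mod O) ℤ} (φ : K ⟶ L), KFlat8.Adapted K → KFlat8.Adapted L →
      KFlat8.Adapted (L ⊞ CochainComplex.mappingCone (𝟙 K)) ∧ KFlat8.Adapted (KFlat.cylCoker φ) := fun {K L} φ hK hL =>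
    ⟨hL.biprod (isKFlat_of_contractible (T := (TS O).flip) (CochainComplex.mappingCone.homotopyToZeroOfId K)),
      hK.cylCoker φ hL⟩
  refine RHom.homExact_of_adapted (G := KFlat8.G E) (ModSite.LTensorCx E) h1 (fun K => KFlat8.Adapted K) ?_ ?_ ?_ ?_
  · exact KFlat8.exists_res
  · exact h2
  · exact KFlat8.counit E
  · exact KFlat8.isIso_counit' E

/-- The derived internal hom exists. -/
theorem hasRHom (E : CochainComplex (ModSite.Mod O) ℤ) [ModSite.HasLTensorCx E] : HasRHom E := by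
  haveI : IsGrothendieckAbelian.{u} (ModSite.Mod O) :=
    CohFound.isGrothendieckAbelian_sheafOfModules (ModSite.ringSh O)
  haveI := fun ι : Type u => KFlat8.preservesCoproducts_LT E ι
  exact RHom.isLeftAdjoint_of_homExact (ModSite.LTensorCx E) (homExact_LT E)

/-- A complex tensored with the structure sheaf. -/
theorem nonempty_unit_tensor (F : CochainComplex (ModSite.Mod O) ℤ) (a : ℤ) :
    Nonempty ((KFlat8.G F).obj ((HomologicalComplex.single (ModSite.Mod O) (ComplexShape.up ℤ) a).obj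
      (ModSite.unit O)) ≅ F⟦-a⟧) := by
  let T' := ModSite.unit O
  let S := (HomologicalComplex.single (ModSite.Mod O) (ComplexShape.up ℤ) a).obj T'
  let iX : ∀ n, ((TS O).obj T').obj (F.X (n - a)) ≅ (((tcx (TS O).flip).obj F).obj S).X n := fun n =>
    singleTotalIso (T := (TS O).flip) F a T' (sub_add_cancel n a)
  obtain ⟨e⟩ := nonempty_mapRenum_iso ((TS O).obj T') F a
  let e₂ : mapRenum ((TS O).obj T') F a ≅ ((tcx (TS O).flip).obj F).obj S :=
    HomologicalComplex.Hom.isoOfComponents iX fun i j hij => by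
      simp only [ComplexShape.up_Rel] at hij
      exact (singleTotalIso_d (T := (TS O).flip) F a T' (sub_add_cancel i a) (sub_add_cancel j a)
        (show i - a + 1 = j - a by omega)).symm
  exact ⟨(e₂ ≪≫ flipIso (TS O) F S).symm ≪≫ e ≪≫
    (NatIso.mapHomologicalComplex (ModFlat16.unitTensorIso O) (ComplexShape.up ℤ)).app (F⟦-a⟧)⟩

theorem isDerComp_shift {I : IdealSh O} {Z : DerivedCategory (ModSite.Mod O)} (h : IsDerComp O I Z) (m : ℤ) :
    IsDerComp O I (Z⟦m⟧) := fun U f hf n =>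
  (Iso.homCongr (Iso.refl _) ((CategoryTheory.shiftFunctorAdd (DerivedCategory (ModSite.Mod O)) m n).app Z)
    ).subsingleton_congr.1 (h U f hf (m + n))

variable (O) in
/-- Null along every finite local system of generators of `I`. -/
def LocallyNull (I : IdealSh O) (X : CochainComplex (ModSite.Mod O) ℤ) : Prop :=
  ∀ (V : C) (r : ℕ) (a : Fin r → O.obj.obj (op V)), ((I.over V).IsGenBy fun i => GSec.ofSect O V (a i)) →
    haveI : IsGrothendieckAbelian.{u} (ModSite.Mod (O.over V)) :=
      CohFound.isGrothendieckAbelian_sheafOfModules (ModSite.ringSh (O.over V))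
    Null O a X

theorem subsingleton_of_locallyNull (I : IdealSh O) (hI : I.IsFiniteType)
    (X : CochainComplex (ModSite.Mod O) ℤ) (hX : LocallyNull O I X) (Z : DerivedCategory (ModSite.Mod O))
    (hZ : IsDerComp O I Z) : Subsingleton (DerivedCategory.Q.obj X ⟶ Z) := by
  haveI : IsGrothendieckAbelian.{u} (ModSite.Mod O) :=
    CohFound.isGrothendieckAbelian_sheafOfModules (ModSite.ringSh O)
  obtain ⟨F, q, hF, hq⟩ := KFlat8.exists_res X
  let e : DerivedCategory.Q.obj X ≅ DerivedCategory.Q.obj F := (asIso (DerivedCategory.Q.map q)).symm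
  haveI : ModSite.HasLTensorCx F := hasLTensorCx F
  haveI := hasRHom F
  let W := (RHom F).obj Z
  let GenV : Set C := {V | ∃ (r : ℕ) (a : Fin r → O.obj.obj (op V)), (I.over V).IsGenBy fun i => GSec.ofSect O V (a i)}
  have hGen : ∀ U : C, ∃ (ι : Type u) (Y : ι → C) (f : ∀ i, Y i ⟶ U),
      Sieve.ofArrows Y f ∈ J U ∧ ∀ i, Y i ∈ GenV := fun U => by
    obtain ⟨S, hS, hS'⟩ := hI U
    refine ⟨Σ V : C, {g : V ⟶ U // S g}, fun i => i.1, fun i => i.2.1, ?_, fun i => hS' i.2.1 i.2.2⟩
    exact J.superset_covering (fun V g hg => Sieve.ofArrows_mk (fun i : Σ V : C, {g : V ⟶ U // S g} => i.1)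
      (fun i => i.2.1) ⟨V, ⟨g, hg⟩⟩) hS
  have hfree : ∀ V ∈ GenV, PerpObj W (ModSite.freeOn O V) := by
    rintro V ⟨r, a, ha⟩
    refine perpObj_iff.2 fun n => ?_
    haveI : IsGrothendieckAbelian.{u} (ModSite.Mod (O.over V)) :=
      CohFound.isGrothendieckAbelian_sheafOfModules (ModSite.ringSh (O.over V))
    have hc := KFlat8.isIso_counit' F ((HomologicalComplex.single (ModSite.Mod O) (ComplexShape.up ℤ) n).obj
      (ModSite.freeOn O V))
      (KFlat.isKFlat_single (T := (TS O).flip) n _ (((isFlat_iff _).2 (ModFlat16.isFlat_freeOn O V)).flip))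
    obtain ⟨e₁⟩ := nonempty_single_tensor F n V (ModSite.unit (O.over V))
    obtain ⟨e₂⟩ := nonempty_mapRenum_iso (ModSite.restr O V ⋙ (TS (O.over V)).obj (ModSite.unit (O.over V))) F n
    let e₃ := (NatIso.mapHomologicalComplex (Functor.isoWhiskerLeft (ModSite.restr O V)
      (ModFlat16.unitTensorIso (O.over V)) ≪≫ Functor.rightUnitor _) (ComplexShape.up ℤ)).app (F⟦-n⟧)
    let i : (ModSite.LTensorCx F).obj ((DerivedCategory.singleFunctor _ n).obj (ModSite.freeOn O V)) ≅
        DerivedCategory.Q.obj ((Lx O V).obj ((Rx O V).obj (F⟦-n⟧))) :=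
      (ModSite.LTensorCx F).mapIso ((DerivedCategory.singleFunctorIsoCompQ _ n).app _) ≪≫
        @asIso _ _ _ _ _ hc ≪≫ DerivedCategory.Q.mapIso (e₁.symm ≪≫
          (Lx O V).mapIso (e₂ ≪≫ e₃))
    obtain ⟨I₀, hI₀, ⟨e₀⟩⟩ := exists_kInj Z
    have hp : Perp (DerivedCategory.Q.obj I₀) (DerivedCategory.Q.obj ((Lx O V).obj ((Rx O V).obj (F⟦-n⟧)))) := by
      refine (perp_Lx_iff O V _ I₀).2 (perp_of_isZero_kos (sects O a) (fun s hs Y => ?_) _ ?_)
      · obtain ⟨i, rfl⟩ := List.mem_ofFn.1 hs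
        refine perp_telC ((isDerComp_iff_le Z I).1 hZ V ?_) I₀ e₀ Y
        have h1 := ha.1 i (Over.mk (𝟙 V))
        change (O.obj.map (𝟙 V).op).hom (a i) ∈ I.ideal V at h1
        rwa [DerVanish9.map_id] at h1
      · have hnull : IsZero (DerivedCategory.Q.obj (kos (sects O a) ((Rx O V).obj F))) :=
          isZero_kos_restr_of_iso O V (sects O a) e (hX V r a ha)
        obtain ⟨e₄⟩ := nonempty_kosIso (sects O a) (((ModSite.restr O V).mapHomologicalComplex _).commShiftIso (-n) |>.app F)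
        exact (isZero_kos_shift (sects O a) _ (-n) hnull).of_iso (DerivedCategory.Q.mapIso e₄)
    exact ((RHomAdj F).homEquiv _ Z).subsingleton_congr.1 ((Iso.homCongr i.symm
      (e₀ ≪≫ ((shiftFunctorZero (DerivedCategory (ModSite.Mod O)) ℤ).app Z).symm ≪≫
        (shiftFunctorZero (DerivedCategory (ModSite.Mod O)) ℤ).app Z)).subsingleton_congr.1
      ((Iso.homCongr (Iso.refl _) ((shiftFunctorZero (DerivedCategory (ModSite.Mod O)) ℤ).app
        (DerivedCategory.Q.obj I₀))).subsingleton_congr.1 (hp 0)))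
  have hall : PerpObj W (ModSite.unit O) := by
    haveI : (⊤ : ObjectProperty (ModSite.Mod O)).IsClosedUnderFiniteProducts := ⟨fun _ _ => ⟨fun _ _ => trivial⟩⟩
    haveI : (⊤ : ObjectProperty (ModSite.Mod O)).IsClosedUnderKernels := ⟨fun _ _ => trivial⟩
    haveI : (⊤ : ObjectProperty (ModSite.Mod O)).IsClosedUnderCokernels := ⟨fun _ _ => trivial⟩
    haveI : (⊤ : ObjectProperty (ModSite.Mod O)).ContainsZero := ⟨(HasZeroObject.zero (C := ModSite.Mod O)).elim fun Z hZ => ⟨Z, hZ, trivial⟩⟩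
    refine perpObj_of_cover (𝟭 (ModSite.Mod O)) ⊤ (fun N _ => ?_) (ModSite.unit O) trivial
    let ι := Σ V : GenV, N.val.obj (op V.1)
    let T : ι → ModSite.Mod O := fun i => ModSite.freeOn O i.1.1
    let p : (∐ T) ⟶ N := Sigma.desc fun i => (ModFlat16.freeOnHom O i.1.1 N).symm i.2
    refine ⟨∐ T, p, trivial, PerpObj.sigma T fun i => hfree _ i.1.2, ⟨fun {P} f g hfg => ?_⟩⟩
    refine ModFlat16.hom_ext_of_generating GenV hGen fun V hV x => ?_
    have h1 := congrArg (fun z => ModFlat16.freeOnHom O V P (Sigma.ι T (⟨⟨V, hV⟩, x⟩ : ι) ≫ z)) hfg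
    simp only [← Category.assoc, ModFlat16.freeOnHom_comp, p, Sigma.ι_desc, Equiv.apply_symm_apply] at h1
    exact h1
  have h0 := perpObj_iff.1 hall 0
  have hc := KFlat8.isIso_counit' F ((HomologicalComplex.single (ModSite.Mod O) (ComplexShape.up ℤ) 0).obj
      (ModSite.unit O))
    (KFlat.isKFlat_single (T := (TS O).flip) 0 _ (((isFlat_iff _).2 (ModFlat16.isFlat_unit O)).flip))
  obtain ⟨e₁⟩ := nonempty_unit_tensor F 0
  let i : (ModSite.LTensorCx F).obj ((DerivedCategory.singleFunctor _ 0).obj (ModSite.unit O)) ≅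
      DerivedCategory.Q.obj X :=
    (ModSite.LTensorCx F).mapIso ((DerivedCategory.singleFunctorIsoCompQ _ 0).app _) ≪≫
      @asIso _ _ _ _ _ hc ≪≫ DerivedCategory.Q.mapIso (e₁ ≪≫
        (shiftFunctorZero' (CochainComplex (ModSite.Mod O) ℤ) (-0) neg_zero).app F) ≪≫ e.symm
  exact (Iso.homCongr i (Iso.refl Z)).subsingleton_congr.1 (((RHomAdj F).homEquiv _ Z).subsingleton_congr.2 h0)

/-- Locally null complexes are left orthogonal to derived complete objects. -/
theorem perp_of_locallyNull (I : IdealSh O) (hI : I.IsFiniteType)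
    (X : CochainComplex (ModSite.Mod O) ℤ) (hX : LocallyNull O I X) (Z : DerivedCategory (ModSite.Mod O))
    (hZ : IsDerComp O I Z) : Perp Z (DerivedCategory.Q.obj X) :=
  fun n => subsingleton_of_locallyNull I hI X hX _ (isDerComp_shift hZ n)

end Groth.Agent.DerNull9
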