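import Groth.Agent.Lib.DerNull9.Span
import Groth.Agent.Lib.DerVanish9.Complex
import Groth.Agent.Lib.DerVanish9.Tensor
import Groth.Agent.Lib.RHomAway9.Tensor
import Mathlib.Algebra.Homology.ShortComplex.Linear

/-!
Left orthogonals of derived complete objects are locally annihilated by Koszul cones.
-/

set_option autoImplicit false
set_option linter.unusedSectionVars false
set_option linter.style.haveILetI false
set_option backward.isDefEq.respectTransparency false
set_option backward.isDefEq.respectTransparency.types false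

universe u

open CategoryTheory CategoryTheory.Limits Opposite DerComp ZeroObject

attribute [local instance] HasDerivedCategory.standard

namespace Groth.Agent.DerNull9

open DerVanish9 SiteLpull9 KFlat.Site

variable {C : Type u} [SmallCategory C] {J : GrothendieckTopology C} {O : Sheaf J CommRingCat.{u}}
  {U : C} {r : ℕ} {a : Fin r → O.obj.obj (op U)}

variable (O a) in
/-- The sections as global sections of the slice. -/
def sects : List (GSec (O.over U)) := List.ofFn fun i => GSec.ofSect O U (a i)

theorem ofSect_pow (f : O.obj.obj (op U)) (N : ℕ) : GSec.ofSect O U f ^ N = GSec.ofSect O U (f ^ N) :=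
  Subtype.ext (funext fun V => by
    rw [SubmonoidClass.coe_pow, Pi.pow_apply]
    exact (map_pow _ _ _).symm)

variable [IsGrothendieckAbelian.{u} (ModSite.Mod (O.over U))]

theorem isZero_Q_of_isZero_homology {A : Type (u + 1)} [Category.{u} A] [Abelian A]
    (X : CochainComplex A ℤ) (h : ∀ n, IsZero (X.homology n)) : IsZero (DerivedCategory.Q.obj X) := by
  let Z : CochainComplex A ℤ := 0
  have hZ : IsZero Z := isZero_zero _
  haveI : QuasiIso (0 : X ⟶ Z) := ⟨fun n => (quasiIsoAt_iff_isIso_homologyMap _ n).2
    (isIso_of_source_target_iso_zero _ (h n).isoZero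
      ((HomologicalComplex.homologyFunctor A (ComplexShape.up ℤ) n).map_isZero hZ).isoZero)⟩
  exact (DerivedCategory.Q.map_isZero hZ).of_iso (asIso (DerivedCategory.Q.map (0 : X ⟶ Z)))

/-- Multiplication by a scalar on homology. -/
theorem homologyMap_smul_id {R : Type u} [CommRing R] {A : Type (u + 1)} [Category.{u} A] [Abelian A]
    [Linear R A] (X : CochainComplex A ℤ) (s : R) (k : ℤ)
    (h : s • 𝟙 (DerivedCategory.Q.obj X) = 0) : s • 𝟙 (X.homology k) = 0 := by
  have h1 : DerivedCategory.Q.map (s • 𝟙 X) = 0 := by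
    rw [Functor.map_smul, CategoryTheory.Functor.map_id, h]
  have h2 : HomologicalComplex.homologyMap (s • 𝟙 X) k = 0 := by
    have hn := (DerivedCategory.homologyFunctorFactors A k).hom.naturality (s • 𝟙 X)
    change (DerivedCategory.homologyFunctor A k).map (DerivedCategory.Q.map _) ≫ _ = _ ≫ HomologicalComplex.homologyMap _ _ at hn
    rw [h1, Functor.map_zero, zero_comp] at hn
    rw [← cancel_epi ((DerivedCategory.homologyFunctorFactors A k).hom.app X), comp_zero]
    exact hn.symm
  have h3 : (HomologicalComplex.shortComplexFunctor A (ComplexShape.up ℤ) k).map (s • 𝟙 X) =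
      s • 𝟙 ((HomologicalComplex.shortComplexFunctor A (ComplexShape.up ℤ) k).obj X) := by ext <;> rfl
  show s • 𝟙 ((X.sc k).homology) = 0
  rw [← ShortComplex.homologyMap_id (X.sc k), ← ShortComplex.homologyMap_smul]
  change ShortComplex.homologyMap (s • 𝟙 ((HomologicalComplex.shortComplexFunctor A (ComplexShape.up ℤ) k).obj X)) = 0
  rw [← h3]
  exact h2

/-- The test modules are annihilated by the iterated cone. -/
theorem isZero_kos_tel (W : C) (g : O.obj.obj (op W))
    (hloc : ∀ (B : C) (q : B ⟶ W) (y : B ⟶ U), LocSpan O a y ((O.obj.map q.op).hom g))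
    (as : List (GSec (O.over U))) (has : ∀ i, GSec.ofSect O U (a i) ∈ as) (n : ℤ) :
    IsZero (DerivedCategory.Q.obj (kos as
      ((HomologicalComplex.single _ (ComplexShape.up ℤ) n).obj ((ModSite.restr O U).obj (Tel (mu O W g)))))) := by
  classical
  haveI : IsGrothendieckAbelian.{u} (ModSite.Mod O) :=
    CohFound.isGrothendieckAbelian_sheafOfModules (ModSite.ringSh O)
  let M' := (ModSite.restr O U).obj (Tel (mu O W g))
  let X := kos as ((HomologicalComplex.single _ (ComplexShape.up ℤ) n).obj (ModSite.unit (O.over U)))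
  choose Ni hNi using fun i => exists_pow_smul_kos as
    ((HomologicalComplex.single _ (ComplexShape.up ℤ) n).obj (ModSite.unit (O.over U))) _ (Or.inl (has i))
  let N := ∑ i, Ni i
  have hH : ∀ i k, smulEnd (GSec.ofSect O U (a i ^ N)) (X.homology k) = 0 := fun i k => by
    have h1 : (GSec.ofSect O U (a i) ^ N) • 𝟙 (DerivedCategory.Q.obj X) = 0 := by
      obtain ⟨d, hd⟩ : ∃ d, N = Ni i + d := Nat.exists_eq_add_of_le (Finset.single_le_sum
        (fun j _ => Nat.zero_le (Ni j)) (Finset.mem_univ i))
      rw [hd, pow_add, mul_comm, mul_smul, hNi i, smul_zero]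
    have h2 := homologyMap_smul_id X _ k h1
    rw [smul_def, Category.comp_id, ofSect_pow] at h2
    exact h2
  obtain ⟨M, hM⟩ := exists_pow_mem_span.{u} r N
  haveI : HasFiniteBiproducts (ModSite.Mod (O.over U)) := Abelian.hasFiniteBiproducts
  let p : (⨁ fun _ : Fin r => M') ⟶ M' := biproduct.desc fun i => smulEnd (GSec.ofSect O U (a i ^ N)) M'
  have hp : Epi p := Preadditive.epi_of_cancel_zero _ fun {Z} h hph => by
    haveI := isLeftAdjoint_restr O U
    have hkill : ∀ i, smulEnd (GSec.ofSect O U (a i ^ N)) M' ≫ h = 0 := fun i => by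
      have hc := congrArg (biproduct.ι (fun _ : Fin r => M') i ≫ ·) hph
      simpa [p] using hc
    let adj := Adjunction.ofIsLeftAdjoint (ModSite.restr O U)
    apply (adj.homEquiv _ _).injective
    refine tel_hom_ext _ fun k => ?_
    rw [← adj.homEquiv_naturality_left, ← adj.homEquiv_naturality_left]
    refine congrArg _ ?_
    rw [comp_zero, ← mu_pow_telι O W g M k, Functor.map_comp, Category.assoc]
    refine hom_eq_zero_of_kill W g hloc hM _ fun i => ?_
    rw [← Category.assoc, smulEnd_comm, Category.assoc, hkill, comp_zero]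
  let T := (TS (O.over U)).obj M'
  have hflat : KFlat.IsFlat (TS (O.over U)) M' :=
    (isFlat_iff _).2 (ModFlat16.isFlat_restr O U _
      ((isFlat_iff _).1 (isFlat_tel (ModFlat16.isFlat_freeOn O W) (mu O W g))))
  haveI := hflat.left
  haveI : PreservesFiniteLimits T := by
    rw [T.preservesFiniteLimits_iff_forall_exact_map_and_mono]
    intro S hS
    haveI := hS.mono_f
    haveI := hS.epi_g
    exact ⟨KFlat.exact_map_of_epi _ hS.exact, inferInstanceAs (Mono (T.map S.f))⟩
  have hT : ∀ k, IsZero (((T.mapHomologicalComplex _).obj X).homology k) := fun k => by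
    refine IsZero.of_iso ?_ ((X.sc k).mapHomologyIso T)
    show IsZero (T.obj (X.homology k))
    let H := X.homology k
    let q := ((TS (O.over U)).map p).app H
    haveI : PreservesColimitsOfShape WalkingSpan ((TS (O.over U)).flip.obj H) :=
      haveI : PreservesColimitsOfShape (ULiftHom.{u} (ULift.{u} WalkingSpan)) ((TS (O.over U)).flip.obj H) :=
        KFlat.Site.preservesColimitsOfShape_flip_obj (O := O.over U) H
      preservesColimitsOfShape_of_equiv (ULiftHomULiftCategory.equiv.{u, u} WalkingSpan).symm _
    haveI : Epi q := inferInstanceAs (Epi (((TS (O.over U)).flip.obj H).map p))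
    have hp' : p = ∑ i, biproduct.π (fun _ : Fin r => M') i ≫ smulEnd (GSec.ofSect O U (a i ^ N)) M' := by
      refine biproduct.hom_ext' _ _ fun j => ?_
      rw [Preadditive.comp_sum, Finset.sum_eq_single j (fun i _ hi => by
        rw [biproduct.ι_π_ne_assoc _ hi.symm, zero_comp]) (by simp)]
      simp [p]
    have hq : q = 0 := by
      have h0 : ((TS (O.over U)).flip.obj H).map p = 0 := by
        rw [hp', Functor.map_sum]
        refine Finset.sum_eq_zero fun i _ => ?_
        rw [Functor.map_comp]
        show _ ≫ ((TS (O.over U)).map (smulEnd _ M')).app H = 0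
        rw [tensor_smulEnd, ← RHomAway9.tensor_map_smulEnd, hH, Functor.map_zero, comp_zero]
      exact h0
    exact IsZero.of_epi_eq_zero q hq
  haveI : T.Additive := inferInstance
  obtain ⟨e⟩ := nonempty_map_kos T id (fun s N => by
    rw [smul_def, smul_def, Category.comp_id, Category.comp_id]
    exact RHomAway9.tensor_map_smulEnd s M' N) as
    ((HomologicalComplex.single _ (ComplexShape.up ℤ) n).obj (ModSite.unit (O.over U)))
  rw [List.map_id] at e
  obtain ⟨e'⟩ := nonempty_kosIso as ((HomologicalComplex.singleMapHomologicalComplex T (ComplexShape.up ℤ) n).app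
    (ModSite.unit (O.over U)) ≪≫ (HomologicalComplex.single _ _ n).mapIso (RHomAway9.rho M'))
  exact (isZero_Q_of_isZero_homology _ hT).of_iso (DerivedCategory.Q.mapIso (e ≪≫ e')).symm

variable (O) in
/-- The iterated cone kills the restriction. -/
def Null (a : Fin r → O.obj.obj (op U)) (X : CochainComplex (ModSite.Mod O) ℤ) : Prop :=
  IsZero (DerivedCategory.Q.obj (kos (sects O a) ((Rx O U).obj X)))

/-- Left orthogonality gives nullity. -/
theorem null_of_leftOrth (I : IdealSh O) (T : ∀ W : C, O.obj.obj (op W) → Prop)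
    (hI : ∀ K : DerivedCategory (ModSite.Mod O), (∀ W g, T W g → Good O K W g) → IsDerComp O I K)
    (hloc : ∀ W g, T W g → ∀ (B : C) (q : B ⟶ W) (y : B ⟶ U), LocSpan O a y ((O.obj.map q.op).hom g))
    (X : CochainComplex (ModSite.Mod O) ℤ)
    (hX : ∀ Y, IsDerComp O I Y → Perp Y (DerivedCategory.Q.obj X)) : Null O a X := by
  haveI : IsGrothendieckAbelian.{u} (ModSite.Mod O) :=
    CohFound.isGrothendieckAbelian_sheafOfModules (ModSite.ringSh O)
  refine (isZero_kos_iff _ _).2 fun W₀ => ?_
  obtain ⟨I₀, hI₀, ⟨e₀⟩⟩ := exists_kInj (DerivedCategory.Q.obj W₀)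
  suffices h : Perp (DerivedCategory.Q.obj (kos (sects O a).reverse I₀)) (DerivedCategory.Q.obj ((Rx O U).obj X)) by
    rw [perp_kos_iff, List.reverse_reverse] at h ⊢
    exact fun n => (Iso.homCongr (Iso.refl _) ((shiftFunctor _ n).mapIso e₀)).subsingleton_congr.1 (h n)
  haveI := isKInjective_kos (sects O a).reverse I₀
  haveI := isLeftAdjoint_restr O U
  let adj := Adjunction.ofIsLeftAdjoint (ModSite.restr O U)
  haveI := preservesFiniteLimits_restr O U
  haveI := preservesFiniteColimits_restr O U
  haveI : (ModSite.restr O U).rightAdjoint.Additive := adj.right_adjoint_additive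
  refine (perp_adj_iff adj X (kos (sects O a).reverse I₀)).2 (hX _ (hI _ fun W g hg => ?_))
  intro n
  refine Perp.iso ?_ ((DerivedCategory.singleFunctorIsoCompQ _ n).app _).symm
  refine (perp_adj_iff adj _ (kos (sects O a).reverse I₀)).1 ?_
  rw [perp_kos_iff, List.reverse_reverse]
  obtain ⟨e⟩ := nonempty_kosIso (sects O a)
    ((HomologicalComplex.singleMapHomologicalComplex (ModSite.restr O U) (ComplexShape.up ℤ) n).app (Tel (mu O W g)))
  exact Perp.of_isZero ((isZero_kos_tel W g (hloc W g hg) (sects O a)
    (fun i => List.mem_ofFn.2 ⟨i, rfl⟩) n).of_iso (DerivedCategory.Q.mapIso e))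

end Groth.Agent.DerNull9
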