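import Groth.Agent.Lib.DerVanish9.Perp
import Groth.Agent.Lib.RHomAway9.Dual
import Mathlib.Algebra.Homology.DerivedCategory.Linear
import Mathlib.Algebra.Homology.Linear

/-!
Iterated cones of scalar multiplications on complexes and their orthogonality properties.
-/

set_option autoImplicit false
set_option linter.unusedSectionVars false
set_option linter.style.haveILetI false
set_option backward.isDefEq.respectTransparency false
set_option backward.isDefEq.respectTransparency.types false

universe t v u v' u'

open CategoryTheory CategoryTheory.Limits CategoryTheory.Pretriangulated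

attribute [local instance] HasDerivedCategory.standard

namespace Groth.Agent.DerNull9

open DerVanish9

variable {R : Type t} [CommRing R] {A : Type u} [Category.{v} A] [Abelian A]
  [IsGrothendieckAbelian.{v} A] [Linear R A]

/-- Iterated cones of multiplications. -/
noncomputable def kos : List R → CochainComplex A ℤ → CochainComplex A ℤ
  | [], K => K
  | a :: as, K => kos as (CochainComplex.mappingCone (a • 𝟙 K))

theorem kos_append (as bs : List R) (K : CochainComplex A ℤ) :
    kos (as ++ bs) K = kos bs (kos as K) := by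
  induction as generalizing K with
  | nil => rfl
  | cons a as ih => exact ih _

/-- Multiplication by `a` is bijective on maps from `X` to the shifts of `Z`. -/
def Bij (a : R) (X Z : DerivedCategory A) : Prop :=
  ∀ n : ℤ, Function.Bijective fun φ : X ⟶ Z⟦n⟧ => a • φ

theorem bijective_smul_congr {a : R} {M N : Type*} [AddCommMonoid M] [Module R M] [AddCommMonoid N]
    [Module R N] (e : M ≃ N) (he : ∀ φ, e (a • φ) = a • e φ)
    (h : Function.Bijective fun φ : N => a • φ) : Function.Bijective fun φ : M => a • φ := by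
  have : (fun φ : M => a • φ) = e.symm ∘ (fun φ : N => a • φ) ∘ e := funext fun φ => by
    simp [← he]
  rw [this]
  exact e.symm.bijective.comp (h.comp e.bijective)

theorem homEquiv_smul {F G : DerivedCategory A ⥤ DerivedCategory A} (adj : F ⊣ G) [G.Additive] [G.Linear R]
    (a : R) {X Y : DerivedCategory A} (φ : F.obj X ⟶ Y) :
    adj.homEquiv X Y (a • φ) = a • adj.homEquiv X Y φ := by
  rw [Adjunction.homEquiv_unit, Adjunction.homEquiv_unit, Functor.map_smul, Linear.comp_smul]

theorem homEquiv_symm_smul {F G : DerivedCategory A ⥤ DerivedCategory A} (adj : F ⊣ G) [F.Additive]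
    [F.Linear R] (a : R) {X Y : DerivedCategory A} (φ : X ⟶ G.obj Y) :
    (adj.homEquiv X Y).symm (a • φ) = a • (adj.homEquiv X Y).symm φ := by
  rw [Adjunction.homEquiv_counit, Adjunction.homEquiv_counit, Functor.map_smul, Linear.smul_comp]

theorem Bij.all {a : R} {X Z : DerivedCategory A} (h : Bij a X Z) (m n : ℤ) :
    Function.Bijective fun φ : X⟦m⟧ ⟶ Z⟦n⟧ => a • φ := by
  let adj : shiftFunctor (DerivedCategory A) m ⊣ shiftFunctor (DerivedCategory A) (-m) :=
    (shiftEquiv' (DerivedCategory A) m (-m) (add_neg_cancel m)).toAdjunction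
  let i := (shiftFunctorAdd' (DerivedCategory A) n (-m) (n - m) (by omega)).app Z
  refine bijective_smul_congr ((adj.homEquiv X (Z⟦n⟧)).trans (Iso.homCongr (Iso.refl X) i.symm))
    (fun φ => ?_) (h (n - m))
  simp only [Equiv.trans_apply, homEquiv_smul, Iso.homCongr_apply, Linear.comp_smul, Linear.smul_comp]

theorem perp_shift_right {K Z : DerivedCategory A} (h : Perp K Z) (m n : ℤ) :
    Subsingleton (Z⟦m⟧ ⟶ K⟦n⟧) := h.shift m n

section Cone

variable (a : R) (K : CochainComplex A ℤ)

/-- The triangle of multiplication by `a`. -/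
noncomputable abbrev smulTriangle : Triangle (DerivedCategory A) :=
  DerivedCategory.Q.mapTriangle.obj (CochainComplex.mappingCone.triangle (a • 𝟙 K))

theorem smulTriangle_mem : smulTriangle a K ∈ distTriang (DerivedCategory A) :=
  DerivedCategory.mappingCone_triangle_distinguished _

theorem smulTriangle_mor₁ : (smulTriangle a K).mor₁ = a • 𝟙 (DerivedCategory.Q.obj K) := by
  show DerivedCategory.Q.map (a • 𝟙 K) = _
  rw [Functor.map_smul, CategoryTheory.Functor.map_id]

theorem mor₃_smul : (smulTriangle a K).mor₃ ≫ (a • 𝟙 ((DerivedCategory.Q.obj K)⟦(1 : ℤ)⟧)) = 0 := by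
  have h := comp_distTriang_mor_zero₃₁ _ (smulTriangle_mem a K)
  rw [smulTriangle_mor₁, Functor.map_smul] at h
  erw [CategoryTheory.Functor.map_id] at h
  exact h

theorem perp_cone_left (Z : DerivedCategory A) :
    Perp Z (DerivedCategory.Q.obj (CochainComplex.mappingCone (a • 𝟙 K))) ↔ Bij a (DerivedCategory.Q.obj K) Z := by
  have hT := smulTriangle_mem a K
  refine ⟨fun h n => ⟨fun φ ψ hφψ => ?_, fun θ => ?_⟩, fun h n => ⟨fun f g => ?_⟩⟩
  · refine sub_eq_zero.1 ?_
    obtain ⟨g, hg⟩ := Triangle.yoneda_exact₂ _ hT (φ - ψ) (by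
      erw [smulTriangle_mor₁, Linear.smul_comp, Category.id_comp, smul_sub, sub_eq_zero]
      exact hφψ)
    rw [hg, show g = 0 from @Subsingleton.elim _ (h n) _ _, comp_zero]
  · obtain ⟨g, hg⟩ := Triangle.yoneda_exact₂ _ (inv_rot_of_distTriang _ hT) θ
      (@Subsingleton.elim _ (perp_shift_right h (-1) n) _ _)
    refine ⟨g, ?_⟩
    rw [hg]
    show a • g = (smulTriangle a K).mor₁ ≫ g
    erw [smulTriangle_mor₁, Linear.smul_comp, Category.id_comp]
  · suffices ∀ f : DerivedCategory.Q.obj (CochainComplex.mappingCone (a • 𝟙 K)) ⟶ Z⟦n⟧, f = 0 from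
      (this f).trans (this g).symm
    clear f g
    intro f
    have h0 : (smulTriangle a K).mor₂ ≫ f = 0 := by
      refine (h n).1 ?_
      show a • _ = a • (0 : DerivedCategory.Q.obj K ⟶ Z⟦n⟧)
      have h12 := comp_distTriang_mor_zero₁₂ _ hT
      rw [smulTriangle_mor₁, Linear.smul_comp] at h12
      erw [Category.id_comp] at h12
      rw [smul_zero, ← Linear.smul_comp]
      erw [h12]
      exact zero_comp
    obtain ⟨ψ, hψ⟩ := Triangle.yoneda_exact₃ _ hT f h0
    obtain ⟨ψ', hψ'⟩ := (h.all 1 n).2 ψ
    rw [hψ, ← hψ']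
    show (smulTriangle a K).mor₃ ≫ (a • ψ') = 0
    have h3 := congrArg (· ≫ ψ') (mor₃_smul a K)
    simp only [Category.assoc, Linear.smul_comp, zero_comp] at h3
    erw [Category.id_comp] at h3
    exact h3

theorem perp_cone_right (X : DerivedCategory A) :
    Perp (DerivedCategory.Q.obj (CochainComplex.mappingCone (a • 𝟙 K))) X ↔ Bij a X (DerivedCategory.Q.obj K) := by
  have hT := smulTriangle_mem a K
  refine ⟨fun h => ?_, fun h n => ⟨fun f g => ?_⟩⟩
  · have key : ∀ m : ℤ, Function.Bijective fun φ : X⟦m⟧ ⟶ DerivedCategory.Q.obj K => a • φ := by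
      refine fun m => ⟨fun φ ψ hφψ => ?_, fun θ => ?_⟩
      · refine sub_eq_zero.1 ?_
        obtain ⟨g, hg⟩ := Triangle.coyoneda_exact₂ _ (inv_rot_of_distTriang _ hT) (φ - ψ) (by
          show (φ - ψ) ≫ (smulTriangle a K).mor₁ = 0
          erw [smulTriangle_mor₁, Linear.comp_smul, Category.comp_id, smul_sub, sub_eq_zero]
          exact hφψ)
        rw [hg, show g = 0 from @Subsingleton.elim _ (perp_shift_right h m (-1)) _ _, zero_comp]
      · have h0 : θ ≫ (smulTriangle a K).mor₂ = 0 := by
          let i := (shiftFunctorZero (DerivedCategory A) ℤ).app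
            (DerivedCategory.Q.obj (CochainComplex.mappingCone (a • 𝟙 K)))
          rw [← cancel_mono i.inv]
          exact @Subsingleton.elim _ (perp_shift_right h m 0) _ _
        obtain ⟨g, hg⟩ := Triangle.coyoneda_exact₂ _ hT θ h0
        refine ⟨g, ?_⟩
        rw [hg]
        erw [smulTriangle_mor₁, Linear.comp_smul, Category.comp_id]
    intro n
    let adj : shiftFunctor (DerivedCategory A) (-n) ⊣ shiftFunctor (DerivedCategory A) n :=
      (shiftEquiv' (DerivedCategory A) (-n) n (neg_add_cancel n)).toAdjunction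
    refine bijective_smul_congr (adj.homEquiv X (DerivedCategory.Q.obj K)).symm (fun φ => ?_) (key (-n))
    exact homEquiv_symm_smul adj a φ
  · suffices ∀ (m : ℤ) (f : X⟦m⟧ ⟶ DerivedCategory.Q.obj (CochainComplex.mappingCone (a • 𝟙 K))), f = 0 by
      refine ((shiftEquiv' (DerivedCategory A) (-n) n (neg_add_cancel n)).toAdjunction.homEquiv X
        (DerivedCategory.Q.obj (CochainComplex.mappingCone (a • 𝟙 K)))).symm.injective ?_
      exact (this _ _).trans (this _ _).symm
    intro m f
    have h0 : f ≫ (smulTriangle a K).mor₃ = 0 := by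
      refine (h.all m 1).1 ?_
      show a • _ = a • (0 : X⟦m⟧ ⟶ (DerivedCategory.Q.obj K)⟦(1 : ℤ)⟧)
      have h3 := congrArg (f ≫ ·) (mor₃_smul a K)
      simp only [Linear.comp_smul, comp_zero] at h3
      erw [Category.comp_id] at h3
      rw [smul_zero]
      exact h3
    obtain ⟨ψ, hψ⟩ := Triangle.coyoneda_exact₃ _ hT f h0
    let i := (shiftFunctorZero (DerivedCategory A) ℤ).app (DerivedCategory.Q.obj K)
    obtain ⟨ψ', hψ'⟩ := (h.all m 0).2 (ψ ≫ i.inv)
    have hψ'' : ψ = a • (ψ' ≫ i.hom) := by
      rw [← Linear.smul_comp, show a • ψ' = ψ ≫ i.inv from hψ', Category.assoc, i.inv_hom_id]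
      exact (Category.comp_id ψ).symm
    rw [hψ, hψ'']
    have h12 := comp_distTriang_mor_zero₁₂ _ hT
    rw [smulTriangle_mor₁, Linear.smul_comp] at h12
    erw [Category.id_comp] at h12
    erw [Linear.smul_comp, ← Linear.comp_smul, h12]
    exact comp_zero

theorem exists_smul_cone (s : R) (hs : s • 𝟙 (DerivedCategory.Q.obj K) = 0 ∨ s = a) :
    (s * s) • 𝟙 (DerivedCategory.Q.obj (CochainComplex.mappingCone (a • 𝟙 K))) = 0 := by
  have hT := smulTriangle_mem a K
  have hg : s • (smulTriangle a K).mor₂ = 0 := by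
    rcases hs with hs | rfl
    · have h := congrArg (· ≫ (smulTriangle a K).mor₂) hs
      simp only [Linear.smul_comp, zero_comp] at h
      erw [Category.id_comp] at h
      exact h
    · have h12 := comp_distTriang_mor_zero₁₂ _ hT
      rw [smulTriangle_mor₁, Linear.smul_comp] at h12
      erw [Category.id_comp] at h12
      exact h12
  have h3 : s • (smulTriangle a K).mor₃ = 0 := by
    rcases hs with hs | rfl
    · have h := congrArg ((smulTriangle a K).mor₃ ≫ (shiftFunctor (DerivedCategory A) (1 : ℤ)).map ·) hs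
      simp only [Functor.map_smul, CategoryTheory.Functor.map_id, Functor.map_zero, Linear.comp_smul,
        comp_zero] at h
      erw [CategoryTheory.Functor.map_id, Category.comp_id] at h
      exact h
    · have h := mor₃_smul s K
      rw [Linear.comp_smul] at h
      erw [Category.comp_id] at h
      exact h
  obtain ⟨χ, hχ⟩ := Triangle.coyoneda_exact₃ _ hT (s • 𝟙 _) (by
    rw [Linear.smul_comp]
    erw [Category.id_comp]
    exact h3)
  rw [mul_smul]
  erw [hχ, ← Linear.comp_smul, hg, comp_zero]

end Cone

/-- Duality. -/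
theorem perp_kos_iff (as : List R) (W X : CochainComplex A ℤ) :
    Perp (DerivedCategory.Q.obj (kos as W)) (DerivedCategory.Q.obj X) ↔
      Perp (DerivedCategory.Q.obj W) (DerivedCategory.Q.obj (kos as.reverse X)) := by
  induction as generalizing W with
  | nil => rfl
  | cons a as ih =>
    rw [List.reverse_cons, kos_append]
    exact (ih _).trans ((perp_cone_right a W _).trans (perp_cone_left a _ _).symm)

theorem isZero_of_perp_self {X : DerivedCategory A} (h : Perp X X) : IsZero X := by
  refine (IsZero.iff_id_eq_zero X).2 ?_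
  let i := (shiftFunctorZero (DerivedCategory A) ℤ).app X
  rw [← cancel_mono i.inv, Category.id_comp, zero_comp]
  exact @Subsingleton.elim _ (h 0) _ _

theorem isZero_kos_iff (as : List R) (X : CochainComplex A ℤ) :
    IsZero (DerivedCategory.Q.obj (kos as X)) ↔
      ∀ W : CochainComplex A ℤ, Perp (DerivedCategory.Q.obj (kos as.reverse W)) (DerivedCategory.Q.obj X) := by
  refine ⟨fun h W => ?_, fun h => isZero_of_perp_self ?_⟩
  · rw [perp_kos_iff, List.reverse_reverse]
    exact Perp.of_isZero h
  · have h' := h (kos as X)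
    rwa [perp_kos_iff, List.reverse_reverse] at h'

theorem isZero_kos_of_iso (as : List R) {X Y : CochainComplex A ℤ}
    (e : DerivedCategory.Q.obj X ≅ DerivedCategory.Q.obj Y) (h : IsZero (DerivedCategory.Q.obj (kos as X))) :
    IsZero (DerivedCategory.Q.obj (kos as Y)) :=
  (isZero_kos_iff as Y).2 fun W => ((isZero_kos_iff as X).1 h W).iso e

theorem isKInjective_kos (as : List R) (I : CochainComplex A ℤ) [I.IsKInjective] :
    (kos as I).IsKInjective := by
  induction as generalizing I with
  | nil => assumption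
  | cons a as ih =>
    haveI := RHomAway9.isKInjective_mappingCone (a • 𝟙 I)
    exact ih _

theorem exists_pow_smul_kos (as : List R) (K : CochainComplex A ℤ) (s : R)
    (hs : s ∈ as ∨ s • 𝟙 (DerivedCategory.Q.obj K) = 0) :
    ∃ N : ℕ, (s ^ N) • 𝟙 (DerivedCategory.Q.obj (kos as K)) = 0 := by
  induction as generalizing K s with
  | nil => exact ⟨1, by simpa [kos] using hs⟩
  | cons a as ih =>
    rcases hs with hs | hs
    · rcases List.mem_cons.1 hs with rfl | hs
      · obtain ⟨N, hN⟩ := ih (CochainComplex.mappingCone (s • 𝟙 K)) (s * s) (Or.inr (exists_smul_cone s K s (Or.inr rfl)))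
        exact ⟨2 * N, by rw [pow_mul, sq]; exact hN⟩
      · exact ih _ s (Or.inl hs)
    · obtain ⟨N, hN⟩ := ih (CochainComplex.mappingCone (a • 𝟙 K)) (s * s) (Or.inr (exists_smul_cone a K s (Or.inl hs)))
      exact ⟨2 * N, by rw [pow_mul, sq]; exact hN⟩

/-- Isomorphic complexes have isomorphic iterated cones. -/
theorem nonempty_kosIso (as : List R) {K L : CochainComplex A ℤ} (e : K ≅ L) :
    Nonempty (kos as K ≅ kos as L) := by
  induction as generalizing K L with
  | nil => exact ⟨e⟩
  | cons a as ih =>
    exact ih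
      { hom := CochainComplex.mappingCone.map (a • 𝟙 K) (a • 𝟙 L) e.hom e.hom (by simp)
        inv := CochainComplex.mappingCone.map (a • 𝟙 L) (a • 𝟙 K) e.inv e.inv (by simp)
        hom_inv_id := by rw [← CochainComplex.mappingCone.map_comp]; simp only [e.hom_inv_id]; exact CochainComplex.mappingCone.map_id _
        inv_hom_id := by rw [← CochainComplex.mappingCone.map_comp]; simp only [e.inv_hom_id]; exact CochainComplex.mappingCone.map_id _ }

section Transport

variable {S : Type t} [CommRing S] {B : Type u'} [Category.{v'} B] [Abelian B]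
  [IsGrothendieckAbelian.{v'} B] [Linear S B] (F : A ⥤ B) [F.Additive]

theorem nonempty_map_kos (σ : R → S) (hσ : ∀ (r : R) (M : A), F.map (r • 𝟙 M) = σ r • 𝟙 (F.obj M))
    (as : List R) (K : CochainComplex A ℤ) :
    Nonempty ((F.mapHomologicalComplex _).obj (kos as K) ≅
      kos (as.map σ) ((F.mapHomologicalComplex _).obj K)) := by
  induction as generalizing K with
  | nil => exact ⟨Iso.refl _⟩
  | cons a as ih =>
    obtain ⟨e⟩ := ih (CochainComplex.mappingCone (a • 𝟙 K))
    have h : (F.mapHomologicalComplex (ComplexShape.up ℤ)).map (a • 𝟙 K) = σ a • 𝟙 _ :=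
      HomologicalComplex.hom_ext _ _ fun n => hσ a (K.X n)
    obtain ⟨e'⟩ := nonempty_kosIso (as.map σ)
      (CochainComplex.mappingCone.mapHomologicalComplexIso (a • 𝟙 K) F ≪≫ eqToIso (congrArg (fun φ => CochainComplex.mappingCone φ) h))
    exact ⟨e ≪≫ e'⟩

end Transport

end Groth.Agent.DerNull9
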