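import Groth.Agent.Lib.DerNull9.Kos
import Groth.Agent.Lib.KInj.DerivedAdj
import Groth.Agent.Lib.KInj.Basic
import Groth.Agent.Lib.ModFlat16.RestrTensor
import Groth.Agent.Lib.CohFound.ModulesInst
import Groth.Prelude.Def_DerComp
import Mathlib.CategoryTheory.Sites.CoverLifting
import Mathlib.CategoryTheory.Adjunction.AdjointFunctorTheorems

/-!
Orthogonality and adjoint pairs; restriction to a slice has both adjoints.
-/

set_option autoImplicit false
set_option linter.unusedSectionVars false
set_option linter.style.haveILetI false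
set_option backward.isDefEq.respectTransparency false
set_option backward.isDefEq.respectTransparency.types false

universe v u v' u'

open CategoryTheory CategoryTheory.Limits

attribute [local instance] HasDerivedCategory.standard

namespace Groth.Agent.DerNull9

open DerVanish9

section Adj

variable {A : Type u} [Category.{v} A] [Abelian A] [IsGrothendieckAbelian.{v} A]
  {B : Type u'} [Category.{v'} B] [Abelian B] [IsGrothendieckAbelian.{v'} B]
  {L : A ⥤ B} {G : B ⥤ A} [L.Additive] [G.Additive] [PreservesFiniteLimits L]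
  [PreservesFiniteColimits L] (adj : L ⊣ G)

include adj in
/-- Homs of the derived category along an exact left adjoint. -/
theorem subsingleton_adj_iff (X : CochainComplex A ℤ) (J : CochainComplex B ℤ) [J.IsKInjective] :
    Subsingleton (DerivedCategory.Q.obj ((L.mapHomologicalComplex _).obj X) ⟶ DerivedCategory.Q.obj J) ↔
      Subsingleton (DerivedCategory.Q.obj X ⟶ DerivedCategory.Q.obj ((G.mapHomologicalComplex _).obj J)) := by
  haveI := KInjLib.isKInjective_of_adj G L adj J
  let cadj := KInjLib.adjComplexes adj (ComplexShape.up ℤ)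
  refine ⟨fun h => ⟨fun f g => ?_⟩, fun h => ⟨fun f g => ?_⟩⟩
  · suffices ∀ f : DerivedCategory.Q.obj X ⟶ DerivedCategory.Q.obj ((G.mapHomologicalComplex _).obj J), f = 0
      from (this f).trans (this g).symm
    clear f g
    intro f
    obtain ⟨φ, rfl⟩ := KInjLib.exists_map_eq f
    obtain ⟨H⟩ := (KInjLib.map_eq_iff ((cadj.homEquiv X J).symm φ) 0).1
      (@Subsingleton.elim _ h (DerivedCategory.Q.map _) (DerivedCategory.Q.map _))
    rw [← DerivedCategory.Q.map_zero, KInjLib.map_eq_iff]
    refine ⟨(Homotopy.ofEq ?_).trans (((G.mapHomotopy H).compLeft (cadj.unit.app X)).trans (Homotopy.ofEq ?_))⟩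
    · exact ((cadj.homEquiv X J).apply_symm_apply φ).symm.trans (cadj.homEquiv_unit _ _ _)
    · simp
  · suffices ∀ f : DerivedCategory.Q.obj ((L.mapHomologicalComplex _).obj X) ⟶ DerivedCategory.Q.obj J, f = 0
      from (this f).trans (this g).symm
    clear f g
    intro f
    obtain ⟨φ, rfl⟩ := KInjLib.exists_map_eq f
    obtain ⟨H⟩ := (KInjLib.map_eq_iff (cadj.homEquiv X J φ) 0).1
      (@Subsingleton.elim _ h (DerivedCategory.Q.map _) (DerivedCategory.Q.map _))
    rw [← DerivedCategory.Q.map_zero, KInjLib.map_eq_iff]
    refine ⟨(Homotopy.ofEq ?_).trans (((L.mapHomotopy H).compRight (cadj.counit.app J)).trans (Homotopy.ofEq ?_))⟩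
    · exact ((cadj.homEquiv X J).symm_apply_apply φ).symm.trans (cadj.homEquiv_counit _ _ _)
    · simp

include adj in
/-- Orthogonality along an exact left adjoint. -/
theorem perp_adj_iff (X : CochainComplex A ℤ) (J : CochainComplex B ℤ) [J.IsKInjective] :
    Perp (DerivedCategory.Q.obj J) (DerivedCategory.Q.obj ((L.mapHomologicalComplex _).obj X)) ↔
      Perp (DerivedCategory.Q.obj ((G.mapHomologicalComplex _).obj J)) (DerivedCategory.Q.obj X) := by
  refine forall_congr' fun n => ?_
  let i := ((DerivedCategory.Q (C := B)).commShiftIso n).app J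
  let j := ((DerivedCategory.Q (C := A)).commShiftIso n).app ((G.mapHomologicalComplex _).obj J)
  let k := ((G.mapHomologicalComplex (ComplexShape.up ℤ)).commShiftIso n).app J
  refine ((Iso.homCongr (Iso.refl _) i).subsingleton_congr).symm.trans ?_
  refine (subsingleton_adj_iff adj X ((shiftFunctor (CochainComplex B ℤ) n).obj J)).trans ?_
  exact (Iso.homCongr (Iso.refl _) (DerivedCategory.Q.mapIso k ≪≫ j)).subsingleton_congr

end Adj

variable {C : Type u} [SmallCategory C] {J : GrothendieckTopology C} (O : Sheaf J CommRingCat.{u}) (U : C)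

theorem preservesColimits_restr : PreservesColimitsOfSize.{u, u} (ModSite.restr O U) where
  preservesColimitsOfShape {K} _ := by
    let S := (Over.forget U).sheafPushforwardContinuous AddCommGrpCat.{u} (J.over U) J
    haveI : S.IsLeftAdjoint :=
      ⟨_, ⟨(Over.forget U).sheafAdjunctionCocontinuous AddCommGrpCat.{u} (J.over U) J⟩⟩
    let e : ModSite.restr O U ⋙ SheafOfModules.toSheaf.{u} (ModSite.ringSh (O.over U)) ≅
        SheafOfModules.toSheaf.{u} (ModSite.ringSh O) ⋙ S := NatIso.ofComponents fun _ => Iso.refl _
    haveI : PreservesColimitsOfShape K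
        (ModSite.restr O U ⋙ SheafOfModules.toSheaf.{u} (ModSite.ringSh (O.over U))) :=
      haveI := CohFound.preservesColimitsOfShape_sheafOfModules_toSheaf (ModSite.ringSh O) K
      preservesColimitsOfShape_of_natIso e.symm
    haveI := CohFound.preservesColimitsOfShape_sheafOfModules_toSheaf (ModSite.ringSh (O.over U)) K
    haveI : ReflectsColimitsOfShape K (SheafOfModules.toSheaf.{u} (ModSite.ringSh (O.over U))) :=
      reflectsColimitsOfShape_of_reflectsIsomorphisms
    exact preservesColimitsOfShape_of_reflects_of_preserves _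
      (SheafOfModules.toSheaf.{u} (ModSite.ringSh (O.over U)))

theorem isLeftAdjoint_restr : (ModSite.restr O U).IsLeftAdjoint := by
  haveI : IsGrothendieckAbelian.{u} (ModSite.Mod O) :=
    CohFound.isGrothendieckAbelian_sheafOfModules (ModSite.ringSh O)
  haveI := preservesColimits_restr O U
  haveI : WellPowered.{u} (ModSite.Mod O) :=
    wellPowered_of_isDetector _ (isSeparator_separator (ModSite.Mod O)).isDetector
  haveI : WellPowered.{u} (ModSite.Mod O)ᵒᵖ := Abelian.wellPowered_opposite
  exact isLeftAdjoint_of_preservesColimits_of_isSeparating (isSeparator_separator (ModSite.Mod O)) _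

theorem preservesFiniteLimits_restr : PreservesFiniteLimits (ModSite.restr O U) :=
  haveI : PreservesLimitsOfSize.{0, 0} (ModSite.restr O U) :=
    (ModSite.extZeroAdj O U).rightAdjoint_preservesLimits
  PreservesLimitsOfSize.preservesFiniteLimits _

theorem preservesFiniteColimits_restr : PreservesFiniteColimits (ModSite.restr O U) :=
  haveI := preservesColimits_restr O U
  haveI : PreservesColimitsOfSize.{0, 0} (ModSite.restr O U) := preservesColimitsOfSize_shrink.{0, u, 0, u} _
  PreservesColimitsOfSize.preservesFiniteColimits _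

theorem preservesFiniteColimits_extZero : PreservesFiniteColimits (ModSite.extZero O U) :=
  haveI : PreservesColimitsOfSize.{0, 0} (ModSite.extZero O U) :=
    (ModSite.extZeroAdj O U).leftAdjoint_preservesColimits
  PreservesColimitsOfSize.preservesFiniteColimits _

/-- Restriction of complexes. -/
noncomputable abbrev Rx : CochainComplex (ModSite.Mod O) ℤ ⥤ CochainComplex (ModSite.Mod (O.over U)) ℤ :=
  (ModSite.restr O U).mapHomologicalComplex (ComplexShape.up ℤ)

/-- Extension by zero of complexes. -/
noncomputable abbrev Lx : CochainComplex (ModSite.Mod (O.over U)) ℤ ⥤ CochainComplex (ModSite.Mod O) ℤ :=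
  (ModSite.extZero O U).mapHomologicalComplex (ComplexShape.up ℤ)

theorem isKInjective_Rx (I : CochainComplex (ModSite.Mod O) ℤ) [I.IsKInjective] :
    ((Rx O U).obj I).IsKInjective := by
  haveI := ModFlat16.preservesFiniteLimits_extZero O U
  haveI := preservesFiniteColimits_extZero O U
  exact KInjLib.isKInjective_of_adj (ModSite.restr O U) (ModSite.extZero O U) (ModSite.extZeroAdj O U) I

theorem perp_Lx_iff (X : CochainComplex (ModSite.Mod (O.over U)) ℤ) (I : CochainComplex (ModSite.Mod O) ℤ)
    [I.IsKInjective] :
    Perp (DerivedCategory.Q.obj I) (DerivedCategory.Q.obj ((Lx O U).obj X)) ↔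
      Perp (DerivedCategory.Q.obj ((Rx O U).obj I)) (DerivedCategory.Q.obj X) := by
  haveI : IsGrothendieckAbelian.{u} (ModSite.Mod O) :=
    CohFound.isGrothendieckAbelian_sheafOfModules (ModSite.ringSh O)
  haveI : IsGrothendieckAbelian.{u} (ModSite.Mod (O.over U)) :=
    CohFound.isGrothendieckAbelian_sheafOfModules (ModSite.ringSh (O.over U))
  haveI := ModFlat16.preservesFiniteLimits_extZero O U
  haveI := preservesFiniteColimits_extZero O U
  exact perp_adj_iff (ModSite.extZeroAdj O U) X I

/-- Every complex is isomorphic in the derived category to a K-injective one. -/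
theorem exists_kInj {A : Type u} [Category.{v} A] [Abelian A] [IsGrothendieckAbelian.{v} A]
    (X : DerivedCategory A) :
    ∃ I : CochainComplex A ℤ, I.IsKInjective ∧ Nonempty (DerivedCategory.Q.obj I ≅ X) := by
  obtain ⟨I, φ, hI, hφ, -, -⟩ := KInjLib.exists_resolution (DerivedCategory.Q.objPreimage X)
  exact ⟨I, hI, ⟨(asIso (DerivedCategory.Q.map φ)).symm ≪≫ DerivedCategory.Q.objObjPreimageIso X⟩⟩

theorem isZero_kos_restr_of_iso (as : List (DerComp.GSec (O.over U))) {X Y : CochainComplex (ModSite.Mod O) ℤ}
    (e : DerivedCategory.Q.obj X ≅ DerivedCategory.Q.obj Y)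
    [IsGrothendieckAbelian.{u} (ModSite.Mod (O.over U))]
    (h : IsZero (DerivedCategory.Q.obj (kos as ((Rx O U).obj X)))) :
    IsZero (DerivedCategory.Q.obj (kos as ((Rx O U).obj Y))) := by
  haveI := preservesFiniteLimits_restr O U
  haveI := preservesFiniteColimits_restr O U
  let F := (ModSite.restr O U).mapDerivedCategoryFactors
  exact isZero_kos_of_iso as ((F.app X).symm ≪≫ (ModSite.restr O U).mapDerivedCategory.mapIso e ≪≫ F.app Y) h

end Groth.Agent.DerNull9
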