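import Groth.Agent.Lib.DerVanish9.Ideal
import Groth.Agent.Lib.ModFlat16.ExtZero
import Groth.Agent.Lib.DerNull9.Slice
import Mathlib.RingTheory.Finiteness.Ideal
import Mathlib.RingTheory.MvPolynomial.Basic

/-!
Local membership in finitely generated ideals and its effect on restricted free modules.
-/

set_option autoImplicit false
set_option linter.unusedSectionVars false
set_option linter.style.haveILetI false
set_option backward.isDefEq.respectTransparency false
set_option backward.isDefEq.respectTransparency.types false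

universe u

open CategoryTheory CategoryTheory.Limits Opposite DerComp

attribute [local instance] HasDerivedCategory.standard

namespace Groth.Agent.DerNull9

open DerVanish9 SiteLpull9

/-- A uniform exponent for powers of finitely generated ideals. -/
theorem exists_pow_mem_span (r N : ℕ) : ∃ M : ℕ, ∀ {R : Type u} [CommRing R] (a : Fin r → R) (g : R),
    g ∈ Ideal.span (Set.range a) → g ^ M ∈ Ideal.span (Set.range fun i => a i ^ N) := by
  let P := MvPolynomial (Fin r) ℤ
  let J : Ideal P := Ideal.span (Set.range fun i => (MvPolynomial.X i : P) ^ N)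
  obtain ⟨M, hM⟩ := Ideal.exists_pow_le_of_le_radical_of_fg (I := Ideal.span (Set.range (MvPolynomial.X : Fin r → P)))
    (J := J) (Ideal.span_le.2 (by
      rintro _ ⟨i, rfl⟩
      exact ⟨N, Ideal.subset_span ⟨i, rfl⟩⟩)) (Submodule.fg_span (Set.finite_range _))
  refine ⟨M, fun {R} _ a g hg => ?_⟩
  let ev : P →+* R := MvPolynomial.eval₂Hom (Int.castRingHom R) a
  have hX : ∀ i, ev (MvPolynomial.X i) = a i := fun i => MvPolynomial.eval₂Hom_X' _ _ i
  have h1 : Ideal.span (Set.range a) = (Ideal.span (Set.range (MvPolynomial.X : Fin r → P))).map ev := by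
    rw [Ideal.map_span, ← Set.range_comp]
    exact congrArg (fun f => Ideal.span (Set.range f)) (funext fun i => (hX i).symm)
  have h2 : Ideal.span (Set.range fun i => a i ^ N) = J.map ev := by
    rw [Ideal.map_span, ← Set.range_comp]
    exact congrArg (fun f => Ideal.span (Set.range f)) (funext fun i => by simp [hX])
  rw [h2]
  refine Ideal.map_mono hM ?_
  rw [Ideal.map_pow, ← h1]
  exact Ideal.pow_mem_pow hg M

variable {C : Type u} [SmallCategory C] {J : GrothendieckTopology C} (O : Sheaf J CommRingCat.{u})
  {U : C} {r : ℕ} (a : Fin r → O.obj.obj (op U))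

/-- Locally, a section is a combination of the given ones. -/
def LocSpan {B : C} (y : B ⟶ U) (g : O.obj.obj (op B)) : Prop :=
  ∃ S ∈ J B, ∀ ⦃B' : C⦄ (k : B' ⟶ B), S k →
    (O.obj.map k.op).hom g ∈ Ideal.span (Set.range fun i => (O.obj.map (k ≫ y).op).hom (a i))

variable {O a}

theorem LocSpan.map {B B' : C} {y : B ⟶ U} {g : O.obj.obj (op B)} (h : LocSpan O a y g) (q : B' ⟶ B) :
    LocSpan O a (q ≫ y) ((O.obj.map q.op).hom g) := by
  obtain ⟨S, hS, hS'⟩ := h
  refine ⟨S.pullback q, J.pullback_stable q hS, fun B'' k hk => ?_⟩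
  have h' := hS' (k ≫ q) hk
  rw [← map_map] at h'
  simpa only [Category.assoc] using h'

theorem locSpan_gen {B : C} (y : B ⟶ U) (i : Fin r) : LocSpan O a y ((O.obj.map y.op).hom (a i)) :=
  ⟨⊤, J.top_mem B, fun B' k _ => by rw [map_map]; exact Ideal.subset_span ⟨i, rfl⟩⟩

/-- Sections of an ideal sheaf generated by `a` are locally combinations of `a`. -/
theorem locSpan_of_isGenBy {I : IdealSh O} (h : (I.over U).IsGenBy fun i => GSec.ofSect O U (a i))
    {B : C} (y : B ⟶ U) {g : O.obj.obj (op B)} (hg : g ∈ I.ideal B) : LocSpan O a y g := by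
  let I' : IdealSh (O.over U) :=
    { ideal := fun A =>
        { carrier := {x | LocSpan O a A.hom x}
          add_mem' := fun {x z} ⟨S, hS, hx⟩ ⟨T, hT, hz⟩ => ⟨S ⊓ T, J.intersection_covering hS hT,
            fun B' k hk => by rw [map_add]; exact Ideal.add_mem _ (hx k hk.1) (hz k hk.2)⟩
          zero_mem' := ⟨⊤, J.top_mem _, fun B' k _ => by rw [map_zero]; exact Ideal.zero_mem _⟩
          smul_mem' := fun c x ⟨S, hS, hx⟩ => ⟨S, hS, fun B' k hk => by
            show (O.obj.map k.op).hom (c * x) ∈ _
            rw [map_mul]; exact Ideal.mul_mem_left _ _ (hx k hk)⟩ }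
      map_mem := fun {A A'} q x hx => by
        have h' := LocSpan.map hx q.left
        rw [Over.w q] at h'
        exact h'
      glue := fun {A x} S hS hx => by
        have hS' := (GrothendieckTopology.mem_over_iff _ _).1 hS
        let A' : ∀ ⦃B' : C⦄ (k : B' ⟶ A.left), Over U := fun B' k => Over.mk (k ≫ A.hom)
        choose T hT hT' using fun {B' : C} (k : B' ⟶ A.left) (hk : Sieve.overEquiv A S k) =>
          hx (Over.homMk k : Over.mk (k ≫ A.hom) ⟶ A) ((Sieve.overEquiv_iff S k).1 hk)
        refine ⟨Sieve.bind (Sieve.overEquiv A S).arrows fun B' k hk => T k hk,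
          J.bind_covering hS' fun B' k hk => hT k hk, ?_⟩
        rintro B'' _ ⟨B', l, k, hk, hl, rfl⟩
        have h' := hT' k hk l hl
        simp only [Over.mk_hom, ← Category.assoc] at h'
        rw [← map_map]
        exact h' }
  exact h.2 I' (fun i A => locSpan_gen A.hom i) (Over.mk y) hg

variable (O)

/-- `mu` is multiplicative. -/
theorem mu_mul (W : C) (g g' : O.obj.obj (op W)) : mu O W g ≫ mu O W g' = mu O W (g * g') := by
  rw [mu, mu, mu, ← Functor.map_comp, smulEnd_comp, ofSect_mul]

theorem mu_pow_telι (W : C) (g : O.obj.obj (op W)) (M n : ℕ) :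
    mu O W (g ^ M) ≫ telι (mu O W g) (n + M) = telι (mu O W g) n := by
  induction M generalizing n with
  | zero =>
    have h1 : mu O W (g ^ 0) = 𝟙 _ := by
      rw [pow_zero, mu, show GSec.ofSect O W 1 = 1 from Subtype.ext (funext fun V => map_one _), smulEnd_one,
        CategoryTheory.Functor.map_id]
    rw [h1]
    exact Category.id_comp _
  | succ M ih =>
    rw [pow_succ, ← mu_mul, Category.assoc, show n + (M + 1) = (n + M) + 1 by omega, ← telι_rel]
    exact ih n

variable {O}

open ModFlat16 in
/-- Maps out of a restricted free module killing the powers of the generators kill high powers of `g`. -/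
theorem hom_eq_zero_of_kill (W : C) (g : O.obj.obj (op W))
    (hloc : ∀ (B : C) (q : B ⟶ W) (y : B ⟶ U), LocSpan O a y ((O.obj.map q.op).hom g))
    {N M : ℕ} (hM : ∀ {R : Type u} [CommRing R] (b : Fin r → R) (c : R),
      c ∈ Ideal.span (Set.range b) → c ^ M ∈ Ideal.span (Set.range fun i => b i ^ N))
    {Z : ModSite.Mod (O.over U)} (h : (ModSite.restr O U).obj (ModSite.freeOn O W) ⟶ Z)
    (hk : ∀ i, smulEnd (GSec.ofSect O U (a i ^ N)) _ ≫ h = 0) :
    (ModSite.restr O U).map (mu O W (g ^ M)) ≫ h = 0 := by
  let s := smulEnd (GSec.ofSect O W (g ^ M)) (ModSite.unit (O.over W))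
  let e := (extIso O W).app (ModSite.unit (O.over W))
  let h1 : (ModSite.restr O U).obj ((extFun O W).obj (ModSite.unit (O.over W))) ⟶ Z :=
    (ModSite.restr O U).map e.inv ≫ h
  have hk1 : ∀ i, smulEnd (GSec.ofSect O U (a i ^ N)) _ ≫ h1 = 0 := fun i => by
    rw [← Category.assoc, smulEnd_comm, Category.assoc, hk, comp_zero]
  suffices hz : (ModSite.restr O U).map ((extFun O W).map s) ≫ h1 = 0 by
    have hn : mu O W (g ^ M) = e.hom ≫ (extFun O W).map s ≫ e.inv := by
      exact (NatIso.naturality_2 (extIso O W) s).symm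
    rw [hn, Functor.map_comp, Functor.map_comp, Category.assoc, Category.assoc, hz, comp_zero]
  refine SheafOfModules.hom_ext (PresheafOfModules.hom_ext fun A => ModuleCat.hom_ext (LinearMap.ext fun x => ?_))
  show h1.val.app A (((ModSite.restr O U).map ((extFun O W).map s)).val.app A x) = (0 : _)
  let P := (ModSite.toPre (O.over W)).obj (ModSite.unit (O.over W))
  let η := (KFlat.Site.adj O).unit.app ((preE O W).obj P)
  have hη := (J.W_iff_isLocallyBijective _).1 (KFlat.Site.W_unit O ((preE O W).obj P))
  haveI := hη.2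
  have hsep : Presheaf.IsSeparated (J.over U) (ModSite.toAb Z).obj :=
    Presheaf.IsSheaf.isSeparated (ModSite.toAb Z).property
  let x₀ : ((ModSite.toPre O).obj ((ModSite.shPre O).obj ((preE O W).obj P))).obj (op A.unop.left) := x
  refine hsep A.unop _ (J.overEquiv_symm_mem_over A.unop _
    (Presheaf.imageSieve_mem J ((PresheafOfModules.toPresheaf _).map η) (U := op A.unop.left) x₀)) _ _ fun B q hq => ?_
  rw [Sieve.overEquiv_symm_iff] at hq
  obtain ⟨z, hz⟩ := hq
  change Z.val.map q.op _ = Z.val.map q.op 0
  rw [map_zero, ← PresheafOfModules.naturality_apply, ← PresheafOfModules.naturality_apply]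
  have hx : ((ModSite.restr O U).obj ((extFun O W).obj (ModSite.unit (O.over W)))).val.map q.op x =
      η.app (op B.left) z := hz.symm
  rw [hx]
  have hnat : ((ModSite.restr O U).map ((extFun O W).map s)).val.app (op B) (η.app (op B.left) z) =
      η.app (op B.left) (((preE O W).map ((ModSite.toPre (O.over W)).map s)).app (op B.left) z) := by
    have hn := congrArg (fun φ => PresheafOfModules.Hom.app φ (op B.left))
      ((KFlat.Site.adj O).unit.naturality ((preE O W).map ((ModSite.toPre (O.over W)).map s)))
    exact (congrArg (fun φ => φ.hom z) hn).symm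
  rw [hnat]
  clear hnat hx hz
  let Φ : Ext0 P (op B.left) →+ Z.val.obj (op B) :=
    (h1.val.app (op B)).hom.toAddMonoidHom.comp (η.app (op B.left)).hom.toAddMonoidHom
  show Φ (extMap ((ModSite.toPre (O.over W)).map s) (op B.left) z) = 0
  induction z using ext0_induction with
  | h0 => rw [map_zero, map_zero]
  | ha u v hu hv => rw [map_add, map_add, hu, hv, add_zero]
  | hs φ p =>
    rw [extMap_sg]
    let c : O.obj.obj (op B.left) := (O.obj.map φ.op).hom (g ^ M)
    have hsg : sg P φ (((ModSite.toPre (O.over W)).map s).app (op (Over.mk φ)) p) =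
        c • sg P φ p := (sg P φ).map_smul c p
    refine (congrArg Φ hsg).trans ?_
    have hΦ : Φ (c • sg P φ p) = (show (ModSite.ringSh (O.over U)).obj.obj (op B) from c) • Φ (sg P φ p) :=
      (congrArg (h1.val.app (op B)) ((η.app (op B.left)).hom.map_smul c (sg P φ p))).trans
        ((h1.val.app (op B)).hom.map_smul _ _)
    rw [hΦ]
    set y := Φ (sg P φ p) with hy
    have hkill : ∀ i, GSec.val' (GSec.ofSect O U (a i ^ N)) (op B) • y = 0 := fun i => by
      have hh := ConcreteCategory.congr_hom (congrArg (fun φ => φ.val.app (op B)) (hk1 i))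
        (η.app (op B.left) (sg P φ p))
      exact ((h1.val.app (op B)).hom.map_smul _ _).symm.trans hh
    obtain ⟨S, hS, hS'⟩ := hloc B.left φ B.hom
    refine hsep B _ (J.overEquiv_symm_mem_over B S hS) _ _ fun B' k hk' => ?_
    rw [Sieve.overEquiv_symm_iff] at hk'
    change Z.val.map k.op _ = Z.val.map k.op 0
    rw [map_zero, PresheafOfModules.map_smul]
    have hc := hM _ _ (hS' k.left hk')
    rw [← map_pow, ← map_pow] at hc
    let Ann : Ideal (O.obj.obj (op B'.left)) :=
      { carrier := {b | (show (ModSite.ringSh (O.over U)).obj.obj (op B') from b) • Z.val.map k.op y = 0}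
        add_mem' := fun {b b'} hb hb' => (add_smul _ _ _).trans ((congrArg₂ (· + ·) hb hb').trans (add_zero _))
        zero_mem' := zero_smul _ _
        smul_mem' := fun b b' hb' => (mul_smul _ _ _).trans ((congrArg (_ • ·) hb').trans (smul_zero _)) }
    refine (show (O.obj.map k.left.op).hom c ∈ Ann from ?_)
    refine (Ideal.span_le (I := Ann)).2 ?_ hc
    rintro _ ⟨i, rfl⟩
    show (show (ModSite.ringSh (O.over U)).obj.obj (op B') from
      ((O.obj.map (k.left ≫ B.hom).op).hom (a i)) ^ N) • Z.val.map k.op y = 0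
    rw [← map_pow, ← map_map]
    exact (PresheafOfModules.map_smul _ k.op _ y).symm.trans ((congrArg (Z.val.map k.op) (hkill i)).trans (map_zero _))

end Groth.Agent.DerNull9
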